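import Groth.Prelude.Def_ActBC
import Groth.Prelude.Def_NonAbH2
import Groth.Agent.Lib.TorsorSch.Basic
import Groth.Agent.Lib.TorsorSch.Descent
import Groth.Agent.Lib.RedPts.BC
import Groth.Agent.Lib.GrpSch.Basic

/-!
# Morphisms of torsors along a homomorphism invertible over a test object
-/

set_option autoImplicit false

noncomputable section

universe u

open CategoryTheory CategoryTheory.Limits MonoidalCategory CartesianMonoidalCategory AlgebraicGeometry
open scoped MonObj

namespace Groth.Agent.Lib.SekSuwaTors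

open Groth.Agent.Lib.RedPts

/-- A morphism of torsors along a homomorphism which is an isomorphism over `T` is an isomorphism
over `T`. -/
theorem isIso_whiskerRight_of_push {X : Scheme.{u}} {G G' P P' : Over X} [GrpObj G] [GrpObj G']
    {a : AlgGrp.Action G P} {a' : AlgGrp.Action G' P'} (g : G ⟶ G') {T : Over X} [IsIso (g ▷ T)]
    (ha : NonAbH1.IsTorsorFor Scheme.fpqcPrecoverage a) (ha' : NonAbH1.IsPseudoTorsorSch a')
    (f : P ⟶ P') (hf : a.act ≫ f = lift (fst G P ≫ g) (snd G P ≫ f) ≫ a'.act) :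
    IsIso (f ▷ T) := by
  have hfT : IsIso (f ▷ T).left :=
    TorsorSch.Descent.of_forall_whiskerRight
      (P := MorphismProperty.isomorphisms Scheme.{u}) ha.2 (f ▷ T) fun {T'} s ↦ by
      let s₂ : T ⊗ T' ⟶ P := snd T T' ≫ s
      have := TorsorSch.Basic.isIso_triv a ha.1 s₂
      have := TorsorSch.Basic.isIso_triv a' ha' (s₂ ≫ f)
      have e₀ : ∀ {T₂ : Over X} (s₂ : T₂ ⟶ P),
          TorsorSch.Basic.triv a s₂ ≫ f ▷ T₂ = g ▷ T₂ ≫ TorsorSch.Basic.triv a' (s₂ ≫ f) := fun {T₂} s₂ ↦ by
        apply CartesianMonoidalCategory.hom_ext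
        · simp only [Category.assoc, whiskerRight_fst, TorsorSch.Basic.triv_fst_assoc,
            TorsorSch.Basic.triv_fst, hf, whiskerLeft_comp]
          rw [comp_lift_assoc]
          simp only [← Category.assoc]
          congr 1
          apply CartesianMonoidalCategory.hom_ext <;> simp
        · simp
      have e := e₀ s₂
      have : IsIso (g ▷ (T ⊗ T')) := by
        rw [show g ▷ (T ⊗ T') = (α_ G T T').inv ≫ (g ▷ T ▷ T') ≫ (α_ G' T T').hom by simp]
        infer_instance
      have : IsIso (TorsorSch.Basic.triv a s₂ ≫ f ▷ (T ⊗ T')) := by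
        rw [e]; infer_instance
      have : IsIso (f ▷ (T ⊗ T')) :=
        IsIso.of_isIso_comp_left (TorsorSch.Basic.triv a s₂) _
      have : IsIso (f ▷ T ▷ T') := by
        rw [show f ▷ T ▷ T' = (α_ P T T').hom ≫ f ▷ (T ⊗ T') ≫ (α_ P' T T').inv by simp]
        infer_instance
      exact (inferInstance : IsIso ((Over.forget X).map (f ▷ T ▷ T')))
  exact (isIso_iff_of_reflects_iso (f ▷ T) (Over.forget X)).mp hfT

variable {S S' : Scheme.{u}} {f : S' ⟶ S} {G Y : Over S} [GrpObj G]

/-- The base-changed action on points downstairs. -/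
theorem down_bc_act (b : AlgGrp.Action G Y) {T : Over S'} (g : T ⟶ Red.bc f G) (y : T ⟶ Red.bc f Y) :
    BC.down f (lift g y ≫ (b.bc f).act) = lift (BC.down f g) (BC.down f y) ≫ b.act := by
  obtain ⟨g', rfl⟩ : ∃ g', BC.up f g' = g := ⟨_, BC.up_down g⟩
  obtain ⟨y', rfl⟩ : ∃ y', BC.up f y' = y := ⟨_, BC.up_down y⟩
  rw [BC.down_up, BC.down_up, AlgGrp.Action.bc_act, ← Category.assoc, BC.down_map]
  refine congrArg (· ≫ b.act) ?_
  have h := BC.homEquiv_lift (Over.mapPullbackAdj f) g' y'
  rw [show lift (BC.up f g') (BC.up f y') ≫ Functor.LaxMonoidal.μ (Over.pullback f) G Y =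
    BC.up f (lift g' y') from h.symm, BC.down_up]

/-- The base change of an equivariant morphism along a homomorphism. -/
theorem bc_push {G' Y' : Over S} [GrpObj G'] {b : AlgGrp.Action G Y} {b' : AlgGrp.Action G' Y'}
    {φ : G ⟶ G'} {β : Y ⟶ Y'} (h : b.act ≫ β = (φ ⊗ₘ β) ≫ b'.act) :
    (b.bc f).act ≫ (Over.pullback f).map β =
      lift (fst _ _ ≫ (Over.pullback f).map φ) (snd _ _ ≫ (Over.pullback f).map β) ≫ (b'.bc f).act := by
  rw [AlgGrp.Action.bc_act, AlgGrp.Action.bc_act, Category.assoc, ← Functor.map_comp, h, Functor.map_comp,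
    ← Functor.LaxMonoidal.μ_natural_assoc]
  refine congrArg (· ≫ _) ?_
  apply CartesianMonoidalCategory.hom_ext <;> simp

end Groth.Agent.Lib.SekSuwaTors
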