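import Groth.Prelude.Def_SekSuwa2
import Mathlib

/-!
# Units which are `N`-th powers modulo `λ ^ N` in a flat algebra with reduced special fibre
-/

set_option autoImplicit false
universe u v

namespace Groth.Agent.Lib.SekSuwaTors.Alg

variable {R : Type u} [CommRing R]

/-- The divisibility of the binomial coefficients contained in the standing condition. -/
theorem dvd_choose_mul {lam : R} {N : ℕ} (h : SekSuwa.DivCond lam N) (i : ℕ) (hi : 1 ≤ i) :
    lam ^ N ∣ (N.choose i : R) * lam ^ i := by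
  obtain ⟨P, hP⟩ := h.2
  refine ⟨P.coeff i, ?_⟩
  have h1 := congrArg (fun q : Polynomial R => q.coeff i) hP
  simp only [Polynomial.coeff_C_mul, Polynomial.coeff_sub] at h1
  rw [h1, Polynomial.coeff_one, if_neg (by omega), sub_zero, add_pow]
  simp only [one_pow, one_mul, Polynomial.finsetSum_coeff]
  rw [Finset.sum_eq_single (N - i)]
  · by_cases hiN : i ≤ N
    · rw [Nat.sub_sub_self hiN, mul_pow, ← Polynomial.C_pow, mul_assoc, Polynomial.coeff_C_mul,
        Polynomial.coeff_mul_natCast, Polynomial.coeff_X_pow, if_pos rfl, Nat.choose_symm hiN]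
      ring
    · rw [Nat.choose_eq_zero_of_lt (by omega), Nat.sub_eq_zero_of_le (show N ≤ i by omega), Nat.sub_zero, mul_pow,
        ← Polynomial.C_pow, Nat.choose_zero_right, mul_assoc, Polynomial.coeff_C_mul,
        Polynomial.coeff_mul_natCast, Polynomial.coeff_X_pow, if_neg (by omega)]
      simp
  · intro m hm hne
    rw [mul_pow, ← Polynomial.C_pow, mul_assoc, Polynomial.coeff_C_mul, Polynomial.coeff_mul_natCast,
      Polynomial.coeff_X_pow, if_neg (by rw [Finset.mem_range] at hm; omega)]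
    simp
  · intro hm
    exact absurd (Finset.mem_range.2 (by omega)) hm

/-- Moving a root by a multiple of `λ` does not change the power modulo `λ ^ N`. -/
theorem dvd_add_pow_sub {lam : R} {N : ℕ} (hdiv : ∀ i : ℕ, 1 ≤ i → lam ^ N ∣ (N.choose i : R) * lam ^ i)
    {B : Type v} [CommRing B] [Algebra R B] (b x : B) :
    algebraMap R B lam ^ N ∣ (b + algebraMap R B lam * x) ^ N - b ^ N := by
  have e : (b + algebraMap R B lam * x) ^ N =
      ∑ i ∈ Finset.range (N + 1), (algebraMap R B lam * x) ^ i * b ^ (N - i) * (N.choose i : B) := by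
    rw [add_comm b, add_pow]
  rw [e, Finset.sum_range_succ', pow_zero, Nat.choose_zero_right, Nat.cast_one, one_mul, mul_one,
    Nat.sub_zero, add_sub_cancel_right]
  refine Finset.dvd_sum fun i _ => ?_
  obtain ⟨r, hr⟩ := hdiv (i + 1) (by omega)
  have hr' := congrArg (algebraMap R B) hr
  rw [map_mul, map_mul, map_natCast, map_pow, map_pow] at hr'
  exact ⟨algebraMap R B r * (x ^ (i + 1) * b ^ (N - (i + 1))), by
    linear_combination (x ^ (i + 1) * b ^ (N - (i + 1))) * hr'⟩

section DVR

variable [IsDomain R] [IsDiscreteValuationRing R] {A : Type u} [CommRing A] [Algebra R A]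

theorem dvd_of_dvd_map {ϖ : R} (hϖ : Irreducible ϖ) (hreg : IsSMulRegular A ϖ)
    (hA : ¬IsUnit (algebraMap R A ϖ)) {m : ℕ} {r : R} (h : algebraMap R A ϖ ^ m ∣ algebraMap R A r) :
    ϖ ^ m ∣ r := by
  rcases eq_or_ne r 0 with rfl | hr
  · exact dvd_zero _
  obtain ⟨k, ε, rfl⟩ := IsDiscreteValuationRing.eq_unit_mul_pow_irreducible hr hϖ
  by_cases hmk : m ≤ k
  · exact Dvd.dvd.mul_left (pow_dvd_pow ϖ hmk) _
  exfalso
  obtain ⟨x, hx⟩ := h
  have h1 : IsSMulRegular A (ϖ ^ k) := hreg.pow k
  have h2 : algebraMap R A (ε : R) = algebraMap R A ϖ ^ (m - k) * x := by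
    refine h1 ?_
    simp only [Algebra.smul_def, map_pow]
    rw [map_mul, map_pow] at hx
    rw [← mul_assoc, ← pow_add, Nat.add_sub_cancel' (by omega), ← hx]
    ring
  have hne : m - k ≠ 0 := by omega
  refine hA (isUnit_of_dvd_unit ((dvd_pow_self (algebraMap R A ϖ) hne).mul_right x) ?_)
  rw [← h2]
  exact ε.isUnit.map _

open IsLocalRing in
/-- A unit which is an `N`-th power modulo `λ ^ N` in `A` is one in `R`. -/
theorem exists_root_mod (p : ℕ) [hp : Fact p.Prime] [CharP (ResidueField R) p]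
    [PerfectField (ResidueField R)] (n : ℕ) (lam : R) (hlam : lam ≠ 0)
    (hdiv : ∀ i : ℕ, 1 ≤ i → lam ^ (p ^ n) ∣ ((p ^ n).choose i : R) * lam ^ i)
    [Module.Flat R A] {ϖ : R} (hϖ : Irreducible ϖ) (hA : ¬IsUnit (algebraMap R A ϖ))
    (hred : _root_.IsReduced (A ⧸ _root_.Ideal.span {algebraMap R A ϖ}))
    (u : R) (hu : IsUnit u) (v : A)
    (hv : algebraMap R A lam ^ (p ^ n) ∣ algebraMap R A u - v ^ (p ^ n)) :
    ∃ c w : R, IsUnit c ∧ u = c ^ (p ^ n) * (1 + lam ^ (p ^ n) * w) := by
  classical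
  let N := p ^ n
  have hN : 0 < N := pow_pos hp.out.pos n
  have hreg : IsSMulRegular A ϖ :=
    Module.Flat.isSMulRegular_of_nonZeroDivisors (mem_nonZeroDivisors_of_ne_zero hϖ.ne_zero)
  obtain ⟨l, e, he⟩ := IsDiscreteValuationRing.eq_unit_mul_pow_irreducible hlam hϖ
  by_cases hl : l = 0
  · subst hl
    rw [pow_zero, mul_one] at he
    obtain ⟨q, hq⟩ := ((he ▸ e.isUnit : IsUnit lam).pow N).exists_right_inv
    exact ⟨1, q * (u - 1), isUnit_one, by linear_combination (-(u - 1)) * hq⟩
  -- the binomial coefficients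
  have hchoose : ∀ i, 1 ≤ i → i ≤ N → ϖ ^ (l * (N - i)) ∣ (N.choose i : R) := by
    intro i hi hiN
    obtain ⟨r, hr⟩ := hdiv i hi
    refine ⟨(e : R) ^ (N - i) * r, mul_right_cancel₀ (pow_ne_zero i hlam) ?_⟩
    rw [hr, he, mul_pow, mul_pow, ← pow_mul, ← pow_mul]
    have h1 : ϖ ^ (l * N) = ϖ ^ (l * (N - i)) * ϖ ^ (l * i) := by
      rw [← pow_add, ← mul_add, Nat.sub_add_cancel hiN]
    have h2 : (e : R) ^ N = (e : R) ^ (N - i) * (e : R) ^ i := by rw [← pow_add, Nat.sub_add_cancel hiN]
    rw [h1, h2]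
    ring
  -- the special fibre
  let J : _root_.Ideal A := _root_.Ideal.span {algebraMap R A ϖ}
  have : Nontrivial (A ⧸ J) := _root_.Ideal.Quotient.nontrivial_iff.2 fun h =>
    hA (_root_.Ideal.span_singleton_eq_top.1 h)
  let κ : ResidueField R →+* A ⧸ J := _root_.Ideal.Quotient.lift (maximalIdeal R)
    ((_root_.Ideal.Quotient.mk J).comp (algebraMap R A)) fun r hr => by
      rw [hϖ.maximalIdeal_eq, _root_.Ideal.mem_span_singleton] at hr
      obtain ⟨s, rfl⟩ := hr
      exact _root_.Ideal.Quotient.eq_zero_iff_mem.2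
        (_root_.Ideal.mem_span_singleton.2 ⟨algebraMap R A s, map_mul _ _ _⟩)
  have hκ : ∀ r : R, κ (residue R r) = _root_.Ideal.Quotient.mk J (algebraMap R A r) := fun r => rfl
  have : CharP (A ⧸ J) p := charP_of_injective_ringHom κ.injective p
  have : ExpChar (ResidueField R) p := ExpChar.prime hp.out
  -- successive approximation
  suffices key : ∀ j, j ≤ l → ∃ (c : R) (x : A), v = algebraMap R A c + algebraMap R A ϖ ^ j * x by
    obtain ⟨c, x, hx⟩ := key l le_rfl
    obtain ⟨y, hy⟩ : ∃ y : A, algebraMap R A ϖ ^ l * x = algebraMap R A lam * y := by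
      refine ⟨algebraMap R A (e⁻¹ : Rˣ) * x, ?_⟩
      have h := congrArg (algebraMap R A) (Units.mul_inv e)
      rw [map_mul, map_one] at h
      rw [he, map_mul, map_pow]
      linear_combination (-(algebraMap R A ϖ ^ l * x)) * h
    have h1 : algebraMap R A lam ^ N ∣ algebraMap R A (u - c ^ N) := by
      have := dvd_add hv (dvd_add_pow_sub hdiv (algebraMap R A c) y)
      rwa [← hy, ← hx, sub_add_sub_cancel, ← map_pow (algebraMap R A) c, ← map_sub] at this
    have h2 : ϖ ^ (l * N) ∣ u - c ^ N := by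
      refine dvd_of_dvd_map hϖ hreg hA (dvd_trans ?_ h1)
      rw [he, map_mul, map_pow, mul_pow, ← pow_mul]
      exact dvd_mul_left _ _
    obtain ⟨s, hs⟩ := h2
    have hlam' : lam ^ N = (e : R) ^ N * ϖ ^ (l * N) := by rw [he, mul_pow, ← pow_mul]
    have hc : IsUnit c := by
      by_contra hc
      have hm : c ∈ maximalIdeal R := hc
      have : u ∈ maximalIdeal R := by
        rw [eq_add_of_sub_eq hs]
        refine _root_.Ideal.add_mem _ (_root_.Ideal.mul_mem_right _ _ ?_) (_root_.Ideal.pow_mem_of_mem _ hm N hN)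
        refine _root_.Ideal.pow_mem_of_mem _ ?_ _ (Nat.mul_pos (Nat.pos_of_ne_zero hl) hN)
        rw [hϖ.maximalIdeal_eq]
        exact _root_.Ideal.mem_span_singleton_self ϖ
      exact this hu
    obtain ⟨c', hc'⟩ := hc.exists_right_inv
    refine ⟨c, ((e⁻¹ : Rˣ) : R) ^ N * c' ^ N * s, hc, ?_⟩
    have e1 : (e : R) ^ N * ((e⁻¹ : Rˣ) : R) ^ N = 1 := by rw [← mul_pow, Units.mul_inv, one_pow]
    have e2 : c ^ N * c' ^ N = 1 := by rw [← mul_pow, hc', one_pow]
    rw [hlam']
    linear_combination hs - ϖ ^ (l * N) * s * e2 - c ^ N * c' ^ N * ϖ ^ (l * N) * s * e1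
  intro j
  induction j with
  | zero => exact fun _ => ⟨0, v, by simp⟩
  | succ j ih =>
    intro hjl
    obtain ⟨c, x, hx⟩ := ih (by omega)
    have hS : ∃ S : A, v ^ N = algebraMap R A c ^ N + algebraMap R A ϖ ^ (j * N) * x ^ N +
        algebraMap R A ϖ ^ (j * N + 1) * S := by
      have e1 : v ^ N = ∑ i ∈ Finset.range (N + 1),
          (algebraMap R A ϖ ^ j * x) ^ i * algebraMap R A c ^ (N - i) * (N.choose i : A) := by
        rw [hx, add_comm (algebraMap R A c), add_pow]
      obtain ⟨M, hM⟩ := Nat.exists_eq_succ_of_ne_zero hN.ne'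
      have hdvd : algebraMap R A ϖ ^ (j * N + 1) ∣ ∑ i ∈ Finset.range M,
          (algebraMap R A ϖ ^ j * x) ^ (i + 1) * algebraMap R A c ^ (N - (i + 1)) *
            (N.choose (i + 1) : A) := by
        refine Finset.dvd_sum fun i hi => ?_
        rw [Finset.mem_range] at hi
        obtain ⟨r, hr⟩ := hchoose (i + 1) (by omega) (by omega)
        have hd : algebraMap R A ϖ ^ (j * N + 1) ∣
            algebraMap R A ϖ ^ (j * (i + 1) + l * (N - (i + 1))) := by
          refine pow_dvd_pow _ ?_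
          obtain ⟨d, hd⟩ : ∃ d, N = i + 1 + (d + 1) := ⟨N - (i + 1) - 1, by omega⟩
          rw [show N - (i + 1) = d + 1 by omega, hd]
          have := Nat.mul_le_mul_right (d + 1) hjl
          rw [Nat.succ_mul] at this
          rw [Nat.mul_add j (i + 1) (d + 1)]
          omega
        refine hd.trans ⟨x ^ (i + 1) * algebraMap R A c ^ (N - (i + 1)) * algebraMap R A r, ?_⟩
        have hr' := congrArg (algebraMap R A) hr
        rw [map_natCast, map_mul, map_pow] at hr'
        rw [hr', mul_pow, ← pow_mul, pow_add]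
        ring
      obtain ⟨S, hS⟩ := hdvd
      refine ⟨S, ?_⟩
      rw [e1, Finset.sum_range_succ', show N = M.succ from hM, Finset.sum_range_succ, ← hM, hS,
        show M + 1 = N from hM.symm]
      simp only [Nat.choose_zero_right, Nat.choose_self, Nat.sub_self, Nat.sub_zero, mul_pow,
        ← pow_mul, pow_zero, Nat.cast_one, one_mul, mul_one]
      ring
    obtain ⟨S, hS⟩ := hS
    obtain ⟨T, hT⟩ : algebraMap R A ϖ ^ (j * N + 1) ∣ algebraMap R A u - v ^ N := by
      refine dvd_trans (dvd_trans (pow_dvd_pow _ ?_) (dvd_mul_left _ (algebraMap R A (e : R) ^ N))) (?_)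
        (b := algebraMap R A (e : R) ^ N * algebraMap R A ϖ ^ (l * N))
      · have := Nat.mul_le_mul_right N hjl
        rw [Nat.succ_mul] at this
        omega
      · rwa [he, map_mul, map_pow, mul_pow, ← pow_mul] at hv
    obtain ⟨a, ha⟩ : ϖ ^ (j * N) ∣ u - c ^ N := by
      refine dvd_of_dvd_map hϖ hreg hA ⟨x ^ N + algebraMap R A ϖ * (S + T), ?_⟩
      rw [map_sub, map_pow]
      linear_combination hT + hS
    have hax : algebraMap R A a = x ^ N + algebraMap R A ϖ * (S + T) := by
      refine (hreg.pow (j * N)) ?_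
      simp only [Algebra.smul_def, map_pow]
      have ha' := congrArg (algebraMap R A) ha
      rw [map_sub, map_pow, map_mul, map_pow] at ha'
      linear_combination -ha' + hT + hS
    obtain ⟨d, hd⟩ := (bijective_iterateFrobenius (ResidueField R) p n).2 (residue R a)
    obtain ⟨d, rfl⟩ := residue_surjective d
    have hxd : _root_.Ideal.Quotient.mk J x = κ (residue R d) := by
      have h1 : _root_.Ideal.Quotient.mk J x ^ N = κ (residue R d) ^ N := by
        rw [← map_pow κ, show residue R d ^ N = residue R a from hd, hκ, hax, map_add, map_pow,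
          map_mul, _root_.Ideal.Quotient.eq_zero_iff_mem.2 (_root_.Ideal.mem_span_singleton_self _),
          zero_mul, add_zero]
      refine sub_eq_zero.1 (IsNilpotent.eq_zero ⟨N, ?_⟩)
      rw [sub_pow_char_pow, h1, sub_self]
    obtain ⟨x', hx'⟩ := _root_.Ideal.mem_span_singleton.1
      (_root_.Ideal.Quotient.eq.1 (hxd.trans (hκ d)))
    refine ⟨c + ϖ ^ j * d, x', ?_⟩
    rw [hx, map_add, map_mul, map_pow, pow_succ]
    linear_combination algebraMap R A ϖ ^ j * hx'

end DVR

end Groth.Agent.Lib.SekSuwaTors.Alg
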