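import Groth.Agent.Lib.SekSuwaTors.Root
import Groth.Agent.Lib.SekSuwaOrd.AKBasis
import Groth.Agent.Lib.TorsorSch.FibreProd
import Mathlib.AlgebraicGeometry.Sites.Fpqc

/-!
# The torsor of solutions of `P(t) = w` and its map to the torsor of roots
-/

set_option autoImplicit false
set_option linter.style.haveILetI false
set_option linter.unusedSectionVars false

noncomputable section

universe u

open CategoryTheory CategoryTheory.Limits MonoidalCategory CartesianMonoidalCategory AlgebraicGeometry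
open scoped TensorProduct MonObj

namespace Groth.Agent.Lib.SekSuwaTors

open Groth.Agent.Lib.RedPts Groth.Agent.Lib.PHS.Basic

attribute [local instance] Points.baseAlgebra

variable {R : Type u} [CommRing R]

theorem appTop_algebraMap {T T' : Over (Spec (CommRingCat.of R))} (k : T' ⟶ T) (r : R) :
    k.left.appTop (algebraMap R Γ(T.left, ⊤) r) = algebraMap R Γ(T'.left, ⊤) r := by
  change k.left.appTop (T.hom.appTop _) = T'.hom.appTop _
  rw [← Over.w k]
  rfl

/-- The additive coordinate as an algebra map. -/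
def appAlg {T T' : Over (Spec (CommRingCat.of R))} (k : T' ⟶ T) : Γ(T.left, ⊤) →ₐ[R] Γ(T'.left, ⊤) :=
  { k.left.appTop.hom with commutes' := appTop_algebraMap k }

theorem ringHomOf_specMap {A A' : Type u} [CommRing A] [CommRing A'] {W : Scheme.{u}}
    (g : W ⟶ Spec (CommRingCat.of A')) (φ : A →+* A') (a : A) :
    Points.ringHomOf (g ≫ Spec.map (CommRingCat.ofHom φ)) a = Points.ringHomOf g (φ a) := by
  rw [Points.ringHomOf_comp]
  exact congrArg g.appTop
    (DFunLike.congr_fun (congrArg CommRingCat.Hom.hom (Scheme.ΓSpecIso_inv_naturality (CommRingCat.ofHom φ))) a).symm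

variable {lam : R} {N : ℕ} [NeZero N] (hd : SekSuwa.DivCond lam N)

/-- The coordinate of a point of the finite group. -/
def tK {T : Over (Spec (CommRingCat.of R))} (z : T ⟶ SekSuwa.GK R lam N hd) : Γ(T.left, ⊤) :=
  Points.algHomOf z (SekSuwa.AK.t : SekSuwa.AK R lam N hd)

variable {hd}

theorem tK_comp {T T' : Over (Spec (CommRingCat.of R))} (k : T' ⟶ T) (z : T ⟶ SekSuwa.GK R lam N hd) :
    tK hd (k ≫ z) = k.left.appTop (tK hd z) :=
  Points.ringHomOf_comp k.left _ _

theorem aeval_tK {T : Over (Spec (CommRingCat.of R))} (z : T ⟶ SekSuwa.GK R lam N hd) :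
    Polynomial.aeval (tK hd z) (SekSuwa.psiPoly lam N hd) = 0 := by
  rw [tK, Polynomial.aeval_algHom_apply, SekSuwa.AK.aeval_t, map_zero]

theorem tK_mul {T : Over (Spec (CommRingCat.of R))} (z z' : T ⟶ SekSuwa.GK R lam N hd) :
    tK hd (z * z') = tK hd z + tK hd z' + algebraMap R Γ(T.left, ⊤) lam * (tK hd z * tK hd z') := by
  rw [tK, Points.algHomOf_mul, SekSuwa.AK.comul_t, map_add, map_add, map_smul,
    Algebra.TensorProduct.lift_tmul, Algebra.TensorProduct.lift_tmul, Algebra.TensorProduct.lift_tmul,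
    map_one, map_one, _root_.mul_one, _root_.one_mul, Algebra.smul_def]
  rfl

theorem tK_one {T : Over (Spec (CommRingCat.of R))} :
    tK hd (1 : T ⟶ SekSuwa.GK R lam N hd) = 0 := by
  rw [tK, Points.algHomOf_one, SekSuwa.AK.counit_t, map_zero]

theorem one_add_tK_pow {T : Over (Spec (CommRingCat.of R))} (z : T ⟶ SekSuwa.GK R lam N hd) :
    (1 + algebraMap R Γ(T.left, ⊤) lam * tK hd z) ^ N = 1 := by
  have h := SekSuwa.aeval_psiPoly hd (tK hd z)
  rw [aeval_tK, mul_zero] at h
  exact sub_eq_zero.1 h.symm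

theorem tK_injective {T : Over (Spec (CommRingCat.of R))} {z z' : T ⟶ SekSuwa.GK R lam N hd}
    (h : tK hd z = tK hd z') : z = z' := by
  refine Points.algHomOf_injective (SekSuwa.AK.algHom_ext h ?_)
  have e : ∀ y : T ⟶ SekSuwa.GK R lam N hd,
      (1 + algebraMap R Γ(T.left, ⊤) lam * tK hd y) * Points.algHomOf y SekSuwa.AK.inv = 1 := fun y => by
    have := congrArg (Points.algHomOf y) (SekSuwaOrd.u_mul_inv (h := hd))
    rwa [map_mul, map_add, map_one, map_smul, Algebra.smul_def] at this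
  refine (IsUnit.of_pow_eq_one (one_add_tK_pow z) (NeZero.ne N)).mul_left_cancel ?_
  rw [e z, h, e z']

theorem exists_tK {T : Over (Spec (CommRingCat.of R))} (b : Γ(T.left, ⊤))
    (hb : Polynomial.aeval b (SekSuwa.psiPoly lam N hd) = 0) :
    ∃ z : T ⟶ SekSuwa.GK R lam N hd, tK hd z = b := by
  obtain ⟨f, hf⟩ := SekSuwaOrd.exists_toAdjoinRoot hd (NeZero.pos N)
  let g : AdjoinRoot (SekSuwa.psiPoly lam N hd) →ₐ[R] Γ(T.left, ⊤) :=
    AdjoinRoot.liftAlgHom _ (Algebra.ofId R _) b hb
  refine ⟨Points.pointOf (g.comp f), ?_⟩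
  rw [tK, Points.algHomOf_pointOf, AlgHom.comp_apply, hf]
  exact AdjoinRoot.liftAlgHom_root ..

theorem chi_alphaN {T : Over (Spec (CommRingCat.of R))} (z : T ⟶ SekSuwa.GK R lam N hd) :
    chi (z ≫ SekSuwa.alphaN R lam N hd) = 1 + algebraMap R Γ(T.left, ⊤) lam * tK hd z := by
  rw [chi, Over.comp_left, SekSuwa.alphaN, SekSuwa.specHom_left]
  refine (ringHomOf_specMap (A := MonoidAlgebra R (Multiplicative (ZMod N))) (A' := SekSuwa.AK R lam N hd) z.left _ _).trans ?_
  change Points.algHomOf z (SekSuwa.alphaNHom R lam N hd (gen R N)) = _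
  rw [SekSuwa.alphaNHom_single_one, map_add, map_one, map_smul, Algebra.smul_def]
  rfl

theorem aeval_add {B : Type u} [CommRing B] [Algebra R B] (b b' : B) :
    Polynomial.aeval (b + b' + algebraMap R B lam * (b * b')) (SekSuwa.psiPoly lam N hd) =
      Polynomial.aeval b (SekSuwa.psiPoly lam N hd) + Polynomial.aeval b' (SekSuwa.psiPoly lam N hd) +
        algebraMap R B (lam ^ N) * (Polynomial.aeval b (SekSuwa.psiPoly lam N hd) *
          Polynomial.aeval b' (SekSuwa.psiPoly lam N hd)) := by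
  have h := congrArg (MvPolynomial.aeval (fun i : Fin 2 => if i = 0 then b else b'))
    (SekSuwa.psiPoly_cocycle hd)
  simp only [map_add, map_mul, MvPolynomial.algHom_C, ← Polynomial.aeval_algHom_apply,
    MvPolynomial.aeval_X, Fin.isValue, ↓reduceIte, one_ne_zero] at h
  simpa only [_root_.mul_assoc] using h

variable (hd) (w : R)

/-- The polynomial `P - w`. -/
abbrev poly : Polynomial R := SekSuwa.psiPoly lam N hd - Polynomial.C w

/-- The scheme of solutions of `P(t) = w`. -/
abbrev QQ : Over (Spec (CommRingCat.of R)) := SB R (AdjoinRoot (poly hd w))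

variable {hd w}

/-- The coordinate of a solution. -/
def qfn {T : Over (Spec (CommRingCat.of R))} (x : T ⟶ QQ hd w) : Γ(T.left, ⊤) :=
  sfn x (AdjoinRoot.root (poly hd w))

theorem qfn_comp {T T' : Over (Spec (CommRingCat.of R))} (k : T' ⟶ T) (x : T ⟶ QQ hd w) :
    qfn (k ≫ x) = k.left.appTop (qfn x) :=
  sfn_comp k x _

theorem aeval_qfn {T : Over (Spec (CommRingCat.of R))} (x : T ⟶ QQ hd w) :
    Polynomial.aeval (qfn x) (SekSuwa.psiPoly lam N hd) = algebraMap R Γ(T.left, ⊤) w := by
  have h : Polynomial.aeval (sAlg x (AdjoinRoot.root (poly hd w))) (poly hd w) = 0 := by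
    rw [Polynomial.aeval_algHom_apply, AdjoinRoot.aeval_eq, AdjoinRoot.mk_self, map_zero]
  rw [map_sub, Polynomial.aeval_C, sub_eq_zero] at h
  exact h

theorem sAlg_ext {f : Polynomial R} {T : Over (Spec (CommRingCat.of R))} {x x' : T ⟶ SB R (AdjoinRoot f)}
    (h : sAlg x (AdjoinRoot.root f) = sAlg x' (AdjoinRoot.root f)) : x = x' := by
  have e := AdjoinRoot.algHom_ext h
  exact sfn_injective fun b => DFunLike.congr_fun e b

theorem qfn_injective {T : Over (Spec (CommRingCat.of R))} {x x' : T ⟶ QQ hd w}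
    (h : qfn x = qfn x') : x = x' :=
  sAlg_ext h

theorem exists_qfn {T : Over (Spec (CommRingCat.of R))} (b : Γ(T.left, ⊤))
    (hb : Polynomial.aeval b (SekSuwa.psiPoly lam N hd) = algebraMap R Γ(T.left, ⊤) w) :
    ∃ x : T ⟶ QQ hd w, qfn x = b := by
  have h : Polynomial.aeval b (poly hd w) = 0 := by
    rw [map_sub, Polynomial.aeval_C, hb, sub_self]
  refine ⟨sPoint (AdjoinRoot.liftAlgHom (poly hd w) (Algebra.ofId R _) b h), ?_⟩
  rw [qfn, sfn_sPoint]
  exact AdjoinRoot.liftAlgHom_root ..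

theorem add_mem {T : Over (Spec (CommRingCat.of R))} (z : T ⟶ SekSuwa.GK R lam N hd) (x : T ⟶ QQ hd w) :
    Polynomial.aeval (tK hd z + qfn x + algebraMap R Γ(T.left, ⊤) lam * (tK hd z * qfn x))
      (SekSuwa.psiPoly lam N hd) = algebraMap R Γ(T.left, ⊤) w := by
  rw [aeval_add, aeval_tK, aeval_qfn, zero_mul, mul_zero, zero_add, add_zero]

theorem isUnit_one_add_qfn (hw : IsUnit (1 + lam ^ N * w)) {T : Over (Spec (CommRingCat.of R))}
    (x : T ⟶ QQ hd w) : IsUnit (1 + algebraMap R Γ(T.left, ⊤) lam * qfn x) := by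
  have h := SekSuwa.aeval_psiPoly hd (qfn x)
  rw [aeval_qfn, map_pow] at h
  have e : (1 + algebraMap R Γ(T.left, ⊤) lam * qfn x) ^ N = algebraMap R Γ(T.left, ⊤) (1 + lam ^ N * w) := by
    rw [map_add, map_one, map_mul, map_pow]
    linear_combination -h
  refine (isUnit_pow_iff (NeZero.ne N)).1 ?_
  rw [e]
  exact hw.map _

variable (hd w)

/-- The action of the finite group on the solutions. -/
theorem exists_act :
    ∃ act : SekSuwa.GK R lam N hd ⊗ QQ hd w ⟶ QQ hd w,
      ∀ {T : Over (Spec (CommRingCat.of R))} (z : T ⟶ SekSuwa.GK R lam N hd) (x : T ⟶ QQ hd w),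
        qfn (lift z x ≫ act) = tK hd z + qfn x + algebraMap R Γ(T.left, ⊤) lam * (tK hd z * qfn x) := by
  obtain ⟨act, hact⟩ := exists_qfn _ (add_mem (fst (SekSuwa.GK R lam N hd) (QQ hd w)) (snd _ _))
  refine ⟨act, fun {T} z x => ?_⟩
  rw [qfn_comp, hact, map_add, map_add, map_mul, map_mul, appTop_algebraMap, ← tK_comp, ← qfn_comp,
    lift_fst, lift_snd]

/-- The torsor of solutions. -/
def qact : AlgGrp.Action (SekSuwa.GK R lam N hd) (QQ hd w) where
  act := (exists_act hd w).choose
  one_act := by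
    refine qfn_injective ?_
    have e : ∀ {T : Over (Spec (CommRingCat.of R))} (k : T ⟶ 𝟙_ (Over (Spec (CommRingCat.of R))))
        (x : T ⟶ QQ hd w),
        qfn (lift k x ≫ η[SekSuwa.GK R lam N hd] ▷ QQ hd w ≫ (exists_act hd w).choose) = qfn x := by
      intro T k x
      rw [lift_whiskerRight_assoc, (exists_act hd w).choose_spec, toUnit_unique k (toUnit T), ← Hom.one_def,
        tK_one]
      ring
    have := e (fst (𝟙_ _) (QQ hd w)) (snd _ _)
    rw [lift_fst_snd, Category.id_comp] at this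
    rw [this, leftUnitor_hom]
  mul_act := by
    refine qfn_injective ?_
    have e : ∀ {T : Over (Spec (CommRingCat.of R))} (z z' : T ⟶ SekSuwa.GK R lam N hd) (x : T ⟶ QQ hd w),
        qfn (lift (lift z z') x ≫ μ[SekSuwa.GK R lam N hd] ▷ QQ hd w ≫ (exists_act hd w).choose) =
          qfn (lift (lift z z') x ≫ (α_ _ _ _).hom ≫
            (SekSuwa.GK R lam N hd ◁ (exists_act hd w).choose) ≫ (exists_act hd w).choose) := by
      intro T z z' x
      rw [lift_whiskerRight_assoc, (exists_act hd w).choose_spec, lift_lift_associator_hom_assoc,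
        lift_whiskerLeft_assoc, (exists_act hd w).choose_spec, (exists_act hd w).choose_spec, ← Hom.mul_def,
        tK_mul]
      ring
    have := e (fst _ _ ≫ fst _ _) (fst _ _ ≫ snd _ _)
      (snd (SekSuwa.GK R lam N hd ⊗ SekSuwa.GK R lam N hd) (QQ hd w))
    rwa [← comp_lift, lift_fst_snd, Category.comp_id, lift_fst_snd, Category.id_comp, Category.id_comp] at this

variable {hd w}

theorem qfn_qact {T : Over (Spec (CommRingCat.of R))} (z : T ⟶ SekSuwa.GK R lam N hd) (x : T ⟶ QQ hd w) :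
    qfn (lift z x ≫ (qact hd w).act) = tK hd z + qfn x + algebraMap R Γ(T.left, ⊤) lam * (tK hd z * qfn x) :=
  (exists_act hd w).choose_spec z x

theorem isPseudoTorsorSch_qact (hw : IsUnit (1 + lam ^ N * w)) :
    NonAbH1.IsPseudoTorsorSch (qact hd w) := by
  let T := QQ hd w ⊗ QQ hd w
  let y : T ⟶ QQ hd w := fst _ _
  let x : T ⟶ QQ hd w := snd _ _
  obtain ⟨e, he⟩ := (isUnit_one_add_qfn hw x).exists_right_inv
  have hy : qfn y = (qfn y - qfn x) * e + qfn x + algebraMap R Γ(T.left, ⊤) lam * ((qfn y - qfn x) * e * qfn x) := by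
    linear_combination (-(qfn y - qfn x)) * he
  obtain ⟨g, hg⟩ := exists_tK (hd := hd) ((qfn y - qfn x) * e) (by
    have h := congrArg (fun b => Polynomial.aeval b (SekSuwa.psiPoly lam N hd)) hy
    simp only [aeval_add, aeval_qfn] at h
    obtain ⟨i, hi⟩ := (hw.map (algebraMap R Γ(T.left, ⊤))).exists_right_inv
    rw [map_add, map_one, map_mul] at hi
    linear_combination (-i) * h -
      (Polynomial.aeval ((qfn y - qfn x) * e) (SekSuwa.psiPoly lam N hd)) * hi)
  have hgy : lift g x ≫ (qact hd w).act = y := qfn_injective (by rw [qfn_qact, hg, ← hy])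
  refine ⟨lift g x, ?_, ?_⟩
  · apply CartesianMonoidalCategory.hom_ext
    · refine tK_injective ?_
      rw [Category.assoc, lift_fst, Category.id_comp, tK_comp, hg]
      let k := lift (qact hd w).act (snd (SekSuwa.GK R lam N hd) (QQ hd w))
      have hky : k ≫ y = (qact hd w).act := lift_fst _ _
      have hkx : k ≫ x = snd _ _ := lift_snd _ _
      have h1 : k.left.appTop (qfn y) = qfn (lift (fst _ _) (snd _ _) ≫ (qact hd w).act) := by
        rw [← qfn_comp, hky, lift_fst_snd, Category.id_comp]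
      rw [qfn_qact] at h1
      have h2 : k.left.appTop (qfn x) = qfn (snd (SekSuwa.GK R lam N hd) (QQ hd w)) := by rw [← qfn_comp, hkx]
      have he' := congrArg k.left.appTop he
      rw [map_mul, map_add, map_one, map_mul, appTop_algebraMap, h2] at he'
      rw [map_mul, map_sub, h1, h2]
      linear_combination (tK hd (fst (SekSuwa.GK R lam N hd) (QQ hd w))) * he'
    · rw [Category.assoc, lift_snd, Category.id_comp]
      exact lift_snd _ _
  · apply CartesianMonoidalCategory.hom_ext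
    · rw [Category.assoc, lift_fst, Category.id_comp]
      exact hgy
    · rw [Category.assoc, lift_snd, Category.id_comp, lift_snd]

theorem monic_poly (hd : SekSuwa.DivCond lam N) (w : R) : (poly hd w).Monic := by
  nontriviality R
  refine (SekSuwaOrd.psiPoly_monic hd (NeZero.pos N)).sub_of_left ?_
  refine lt_of_le_of_lt Polynomial.degree_C_le ?_
  rw [Polynomial.degree_eq_natDegree (SekSuwaOrd.psiPoly_monic hd (NeZero.pos N)).ne_zero,
    SekSuwaOrd.psiPoly_natDegree hd (NeZero.pos N)]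
  exact_mod_cast NeZero.pos N

theorem faithfullyFlat_adjoinRoot [Nontrivial R] (hd : SekSuwa.DivCond lam N) (w : R) :
    Module.FaithfullyFlat R (AdjoinRoot (poly hd w)) := by
  have : Module.Free R (AdjoinRoot (poly hd w)) := (monic_poly hd w).free_adjoinRoot
  have hN : (poly hd w).natDegree = N := by
    rw [Polynomial.natDegree_sub_C, SekSuwaOrd.psiPoly_natDegree hd (NeZero.pos N)]
  have : Nonempty (Fin (AdjoinRoot.powerBasis' (monic_poly hd w)).dim) :=
    ⟨⟨0, by rw [AdjoinRoot.powerBasis'_dim, hN]; exact NeZero.pos N⟩⟩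
  have : Nontrivial (AdjoinRoot (poly hd w)) :=
    (AdjoinRoot.powerBasis' (monic_poly hd w)).basis.repr.toEquiv.nontrivial
  infer_instance

theorem isTorsorFor_qact [Nontrivial R] (hw : IsUnit (1 + lam ^ N * w)) :
    NonAbH1.IsTorsorFor Scheme.fppfPrecoverage (qact hd w) := by
  refine ⟨isPseudoTorsorSch_qact hw, ?_⟩
  have := faithfullyFlat_adjoinRoot hd w
  have : Module.Finite R (AdjoinRoot (poly hd w)) := (monic_poly hd w).finite_adjoinRoot
  have : Module.Free R (AdjoinRoot (poly hd w)) := (monic_poly hd w).free_adjoinRoot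
  have : Module.FinitePresentation R (AdjoinRoot (poly hd w)) := Module.finitePresentation_of_projective R _
  let p := q R (AdjoinRoot (poly hd w))
  have hfl : Module.Flat R (AdjoinRoot (poly hd w)) := inferInstance
  have : Flat p := HasRingHomProperty.Spec_iff.2 (RingHom.flat_algebraMap_iff.2 hfl)
  have : Surjective p := ⟨PrimeSpectrum.comap_surjective_of_faithfullyFlat⟩
  have : LocallyOfFinitePresentation p := (HasRingHomProperty.Spec_iff (P := @LocallyOfFinitePresentation)).2
    (RingHom.finitePresentation_algebraMap.2 (Algebra.FinitePresentation.of_finitePresentation R _))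
  refine ⟨Presieve.singleton p, p.singleton_mem_fppfPrecoverage, ?_⟩
  rintro T g ⟨⟩
  exact ⟨𝟙 _, (Category.id_comp _).trans (Category.comp_id _)⟩

variable {Q' : Over (Spec (CommRingCat.of R))} {b' : AlgGrp.Action (Red.diag R (ZMod N)) Q'}

theorem thetaQ_pow {c u : R} (hu : u = c ^ N * (1 + lam ^ N * w)) {T : Over (Spec (CommRingCat.of R))}
    (x : T ⟶ QQ hd w) :
    (algebraMap R Γ(T.left, ⊤) c * (1 + algebraMap R Γ(T.left, ⊤) lam * qfn x)) ^ N =
      algebraMap R Γ(T.left, ⊤) u := by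
  have h := SekSuwa.aeval_psiPoly hd (qfn x)
  rw [aeval_qfn, map_pow] at h
  rw [hu, map_mul, map_pow, map_add, map_one, map_mul, map_pow, mul_pow]
  linear_combination (-(algebraMap R Γ(T.left, ⊤) c) ^ N) * h

/-- The map to the torsor of roots. -/
theorem exists_push (rt : Root b') {c : R} (hu : rt.u = c ^ N * (1 + lam ^ N * w)) :
    ∃ β : QQ hd w ⟶ Q',
      (∀ {T : Over (Spec (CommRingCat.of R))} (x : T ⟶ QQ hd w) (_ : T ⟶ SB R rt.B),
        IsTheta rt (x ≫ β) (algebraMap R Γ(T.left, ⊤) c * (1 + algebraMap R Γ(T.left, ⊤) lam * qfn x))) ∧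
      (qact hd w).act ≫ β = (SekSuwa.alphaN R lam N hd ⊗ₘ β) ≫ b'.act := by
  let D := QQ hd w ⊗ SB R rt.B
  let p : D ⟶ QQ hd w := fst _ _
  obtain ⟨y₀, hy₀⟩ := exists_point (rt := rt) (T := D) (snd _ _) (thetaQ_pow hu p)
  have : Flat (SB R rt.B).hom := by
    have : Flat (q R rt.B) := HasRingHomProperty.Spec_iff.2 (RingHom.flat_algebraMap_iff.2 inferInstance)
    exact inferInstanceAs (Flat (q R rt.B ≫ 𝟙 _))
  have : Surjective (SB R rt.B).hom := by
    have : Surjective (q R rt.B) := ⟨PrimeSpectrum.comap_surjective_of_faithfullyFlat⟩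
    exact inferInstanceAs (Surjective (q R rt.B ≫ 𝟙 _))
  have : QuasiCompact (SB R rt.B).hom := inferInstanceAs (QuasiCompact (q R rt.B ≫ 𝟙 _))
  have hp : ∀ W : Over (Spec (CommRingCat.of R)), EffectiveEpi (fst W (SB R rt.B)).left := fun W =>
    inferInstanceAs (EffectiveEpi (pullback.fst W.hom (SB R rt.B).hom))
  have := hp (QQ hd w)
  have hall : ∀ {Z : Scheme.{u}} (g₁ g₂ : Z ⟶ D.left), g₁ ≫ p.left = g₂ ≫ p.left → g₁ ≫ y₀.left = g₂ ≫ y₀.left := by
    intro Z g₁ g₂ hg
    let Zo : Over (Spec (CommRingCat.of R)) := Over.mk (g₁ ≫ D.hom)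
    let k₁ : Zo ⟶ D := Over.homMk g₁ rfl
    let k₂ : Zo ⟶ D := Over.homMk g₂ (by
      change g₂ ≫ D.hom = g₁ ≫ D.hom
      rw [← Over.w p, ← Category.assoc, ← hg, Category.assoc])
    have hk : k₁ ≫ p = k₂ ≫ p := Over.OverMorphism.ext hg
    have e : k₁.left.appTop (algebraMap R Γ(D.left, ⊤) c * (1 + algebraMap R Γ(D.left, ⊤) lam * qfn p)) =
        k₂.left.appTop (algebraMap R Γ(D.left, ⊤) c * (1 + algebraMap R Γ(D.left, ⊤) lam * qfn p)) := by
      simp only [map_mul, map_add, map_one, appTop_algebraMap, ← qfn_comp, hk]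
    exact congrArg CommaMorphism.left ((hy₀.comp k₁).inj (e ▸ hy₀.comp k₂))
  let β₀ := EffectiveEpi.desc p.left y₀.left hall
  let β : QQ hd w ⟶ Q' := Over.homMk β₀ (by
    rw [← cancel_epi p.left, ← Category.assoc, EffectiveEpi.fac, Over.w y₀, Over.w p])
  have hβ : p ≫ β = y₀ := Over.OverMorphism.ext (EffectiveEpi.fac p.left y₀.left hall)
  have key : ∀ {T : Over (Spec (CommRingCat.of R))} (x : T ⟶ QQ hd w) (_ : T ⟶ SB R rt.B),
      IsTheta rt (x ≫ β) (algebraMap R Γ(T.left, ⊤) c * (1 + algebraMap R Γ(T.left, ⊤) lam * qfn x)) := by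
    intro T x t
    have h := hy₀.comp (lift x t)
    rw [map_mul, map_add, map_one, map_mul, appTop_algebraMap, appTop_algebraMap, ← qfn_comp,
      show lift x t ≫ p = x from lift_fst _ _] at h
    rwa [← hβ, ← Category.assoc, show lift x t ≫ p = x from lift_fst _ _] at h
  refine ⟨β, @key, ?_⟩
  let W := SekSuwa.GK R lam N hd ⊗ QQ hd w
  have : Epi (fst W (SB R rt.B)) := by
    have := hp W
    exact (Over.forget _).epi_of_epi_map (f := fst W (SB R rt.B))
      (inferInstanceAs (Epi (fst W (SB R rt.B)).left))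
  rw [← cancel_epi (fst W (SB R rt.B))]
  let z : W ⊗ SB R rt.B ⟶ SekSuwa.GK R lam N hd := fst _ _ ≫ fst _ _
  let x : W ⊗ SB R rt.B ⟶ QQ hd w := fst _ _ ≫ snd _ _
  have h1 : fst W (SB R rt.B) ≫ (qact hd w).act ≫ β = (lift z x ≫ (qact hd w).act) ≫ β := by
    rw [show lift z x = fst W (SB R rt.B) by simp only [z, x, ← comp_lift, lift_fst_snd]; exact Category.comp_id _, Category.assoc]
  have h2 : fst W (SB R rt.B) ≫ (SekSuwa.alphaN R lam N hd ⊗ₘ β) ≫ b'.act =
      lift (z ≫ SekSuwa.alphaN R lam N hd) (x ≫ β) ≫ b'.act := by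
    rw [← lift_map_assoc, show lift z x = fst W (SB R rt.B) by simp only [z, x, ← comp_lift, lift_fst_snd]; exact Category.comp_id _]
  rw [h1, h2]
  refine (key _ (snd _ _)).inj ?_
  have h3 := (key x (snd _ _)).act (z ≫ SekSuwa.alphaN R lam N hd)
  rw [chi_alphaN] at h3
  rw [qfn_qact]
  convert h3 using 1
  ring

end Groth.Agent.Lib.SekSuwaTors
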