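import Groth.Prelude.Def_ActBC
import Groth.Agent.Lib.SekSuwaTors.Alg
import Groth.Agent.Lib.SekSuwaTors.Twist
import Groth.Agent.Lib.SekSuwaTors.Transfer
import Groth.Agent.Lib.PHS.SekG

/-!
# The unit of a torsor of roots is an `N`-th power modulo `λ ^ N`
-/

set_option autoImplicit false
set_option linter.style.haveILetI false

noncomputable section

universe u

open CategoryTheory CategoryTheory.Limits MonoidalCategory CartesianMonoidalCategory AlgebraicGeometry
open scoped TensorProduct MonObj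

namespace Groth.Agent.Lib.SekSuwaTors

open Groth.Agent.Lib.RedPts Groth.Agent.Lib.PHS.Basic

attribute [local instance] Points.baseAlgebra

variable {R : Type u} [CommRing R] {lam : R} {N : ℕ} [NeZero N] {hd : SekSuwa.DivCond lam N}

/-- An affine open meeting the special fibre, as a flat algebra with reduced special fibre. -/
theorem exists_chart [IsDomain R] [IsDiscreteValuationRing R] {ϖ : R} (hϖ : Irreducible ϖ)
    {X : Scheme.{u}} (f : X ⟶ Spec (CommRingCat.of R)) [Flat f] [Surjective f]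
    [IsReduced (Limits.pullback f (Spec.map (CommRingCat.ofHom (IsLocalRing.residue R))))] :
    ∃ (U : X.Opens), IsAffineOpen U ∧ ∀ [IsAffine (U : Scheme.{u})],
      letI : Algebra R Γ((U : Scheme.{u}), ⊤) := (PHS.SekG.str (A := Γ((U : Scheme.{u}), ⊤)) f
        ((U : Scheme.{u}).isoSpec.inv ≫ U.ι)).toAlgebra
      Module.Flat R Γ((U : Scheme.{u}), ⊤) ∧ ¬IsUnit (algebraMap R Γ((U : Scheme.{u}), ⊤) ϖ) ∧
        _root_.IsReduced (Γ((U : Scheme.{u}), ⊤) ⧸
          _root_.Ideal.span {algebraMap R Γ((U : Scheme.{u}), ⊤) ϖ}) := by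
  obtain ⟨z, hz⟩ := f.surjective (IsLocalRing.closedPoint R)
  obtain ⟨U, hU, hzU, -⟩ := exists_isAffineOpen_mem_and_subset (x := z) (U := (⊤ : X.Opens)) trivial
  refine ⟨U, hU, ?_⟩
  intro _
  let A : Type u := Γ((U : Scheme.{u}), ⊤)
  let j : Spec (CommRingCat.of A) ⟶ X := (U : Scheme.{u}).isoSpec.inv ≫ U.ι
  letI : Algebra R A := (PHS.SekG.str f j).toAlgebra
  have hjf : Spec.map (CommRingCat.ofHom (algebraMap R A)) = j ≫ f := Spec.map_preimage (j ≫ f)
  refine ⟨?_, ?_, ?_⟩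
  · have : Flat (Spec.map (CommRingCat.ofHom (algebraMap R A))) := by rw [hjf]; infer_instance
    exact RingHom.flat_algebraMap_iff.1 (HasRingHomProperty.Spec_iff.1 this)
  · intro hu
    let z' : PrimeSpectrum A := (U : Scheme.{u}).isoSpec.hom ⟨z, hzU⟩
    have h1 : (Spec.map (CommRingCat.ofHom (algebraMap R A))) z' = IsLocalRing.closedPoint R := by
      rw [hjf, ← hz]
      show f ((j : Spec (CommRingCat.of A) ⟶ X) z') = f z
      congr 1
      show ((U : Scheme.{u}).isoSpec.hom ≫ (U : Scheme.{u}).isoSpec.inv ≫ U.ι) ⟨z, hzU⟩ = z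
      rw [Iso.hom_inv_id_assoc]
      rfl
    have h2 : ϖ ∈ (PrimeSpectrum.comap (algebraMap R A) z').asIdeal := by
      rw [show PrimeSpectrum.comap (algebraMap R A) z' = IsLocalRing.closedPoint R from h1]
      exact hϖ.not_isUnit
    exact z'.isPrime.ne_top (_root_.Ideal.eq_top_of_isUnit_mem _ h2 hu)
  · let r := Spec.map (CommRingCat.ofHom (IsLocalRing.residue R))
    have hk : IsReduced (pullback (j ≫ f) r) :=
      isReduced_of_isOpenImmersion ((pullbackRightPullbackFstIso f r j).inv ≫ pullback.snd j (pullback.fst f r))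
    let k := IsLocalRing.ResidueField R
    let e : Spec (CommRingCat.of (A ⊗[R] k)) ⟶ pullback (j ≫ f) r :=
      (pullbackSpecIso R A k).inv ≫ (pullback.congrHom hjf rfl).hom
    have : IsReduced (Spec (CommRingCat.of (A ⊗[R] k))) := isReduced_of_isOpenImmersion e
    have hAk : _root_.IsReduced (A ⊗[R] k) :=
      isReduced_of_injective (Scheme.ΓSpecIso (CommRingCat.of (A ⊗[R] k))).inv.hom
        (ConcreteCategory.bijective_of_isIso (Scheme.ΓSpecIso (CommRingCat.of (A ⊗[R] k))).inv).1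
    have hI : (IsLocalRing.maximalIdeal R).map (algebraMap R A) = _root_.Ideal.span {algebraMap R A ϖ} := by
      rw [hϖ.maximalIdeal_eq, _root_.Ideal.map_span, Set.image_singleton]
    show _root_.IsReduced (A ⧸ _root_.Ideal.span {algebraMap R A ϖ})
    rw [← hI]
    have eq := Algebra.TensorProduct.quotIdealMapEquivTensorQuot A (IsLocalRing.maximalIdeal R)
    exact @isReduced_of_injective _ _ _ _ _ _ _ eq.toRingEquiv eq.injective hAk

/-- The unit is an `N`-th power modulo `λ ^ N` on each affine open of the source. -/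
theorem exists_mod_root {Q' : Over (Spec (CommRingCat.of R))} {b' : AlgGrp.Action (Red.diag R (ZMod N)) Q'}
    (rt : Root b') {X : Scheme.{u}} (f : X ⟶ Spec (CommRingCat.of R)) {P : Over X}
    (a : AlgGrp.Action (Red.bc f (SekSuwa.GK R lam N hd)) P)
    (ha : NonAbH1.IsTorsorFor Scheme.fpqcPrecoverage a) (j₀ : P ⟶ Red.bc f Q')
    (hj₀ : a.act ≫ j₀ = lift (fst _ _ ≫ (Over.pullback f).map (SekSuwa.alphaN R lam N hd)) (snd _ _ ≫ j₀) ≫
      (b'.bc f).act)
    (U : X.Opens) (hU : IsAffineOpen U) [IsAffine (U : Scheme.{u})] :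
    letI : Algebra R Γ((U : Scheme.{u}), ⊤) := (PHS.SekG.str (A := Γ((U : Scheme.{u}), ⊤)) f
      ((U : Scheme.{u}).isoSpec.inv ≫ U.ι)).toAlgebra
    ∃ v : Γ((U : Scheme.{u}), ⊤), algebraMap R Γ((U : Scheme.{u}), ⊤) lam ^ N ∣
      algebraMap R Γ((U : Scheme.{u}), ⊤) rt.u - v ^ N := by
  obtain ⟨T, hT, q, hqs, hqf, s, hs⟩ := exists_affine_section ha.2 U hU
  algebraize [q.appTop.hom]
  let A : Type u := Γ((U : Scheme.{u}), ⊤)
  let B₁ : Type u := Γ(T, ⊤)
  let j : Spec (CommRingCat.of A) ⟶ X := (U : Scheme.{u}).isoSpec.inv ≫ U.ι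
  letI : Algebra R A := (PHS.SekG.str f j).toAlgebra
  letI : Algebra R B₁ := ((algebraMap A B₁).comp (algebraMap R A)).toAlgebra
  haveI : IsScalarTower R A B₁ := IsScalarTower.of_algebraMap_eq' rfl
  have hq : Spec.map q.appTop = T.isoSpec.inv ≫ q ≫ (U : Scheme.{u}).isoSpec.hom := by
    rw [← Scheme.isoSpec_hom_naturality q, Iso.inv_hom_id_assoc]
  haveI : Module.FaithfullyFlat A B₁ := by
    have hs' : Surjective (Spec.map q.appTop) := by rw [hq]; infer_instance
    have hf' : Flat (Spec.map q.appTop) := by rw [hq]; infer_instance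
    exact (RingHom.FaithfullyFlat.iff_flat_and_comap_surjective (f := q.appTop.hom)).2
      ⟨HasRingHomProperty.Spec_iff.1 hf', hs'.1⟩
  let σ : P1 B₁ j ⟶ P := Over.homMk (T.isoSpec.inv ≫ s) (by
    change _ = Spec.map q.appTop ≫ _
    rw [Category.assoc, hs, hq]
    simp [j])
  let C : Type u := B₁ ⊗[R] rt.B
  haveI : Module.FaithfullyFlat A C := Module.FaithfullyFlat.trans A B₁ C
  haveI : IsScalarTower R A C := IsScalarTower.of_algebraMap_eq fun r => by
    show algebraMap R B₁ r ⊗ₜ[R] (1 : rt.B) = algebraMap A B₁ (algebraMap R A r) ⊗ₜ[R] (1 : rt.B)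
    rfl
  let D := (Over.map f).obj (P1 C j)
  have hD : Spec.map (CommRingCat.ofHom (algebraMap R C)) = D.hom := by
    show _ = (Spec.map (CommRingCat.ofHom (algebraMap A C)) ≫ j) ≫ f
    rw [Category.assoc, ← Spec.map_preimage (j ≫ f), ← Spec.map_comp]
    rw [IsScalarTower.algebraMap_eq R A C, CommRingCat.ofHom_comp]
    rfl
  let t : D ⟶ SB R rt.B := Over.homMk
    (Spec.map (CommRingCat.ofHom (Algebra.TensorProduct.includeRight : rt.B →ₐ[R] C).toRingHom)) (by
    change Spec.map _ ≫ Spec.map _ ≫ 𝟙 _ = D.hom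
    rw [Category.comp_id, ← Spec.map_comp, ← CommRingCat.ofHom_comp, ← hD]
    exact congrArg (fun φ => Spec.map (CommRingCat.ofHom φ))
      (Algebra.TensorProduct.includeRight : rt.B →ₐ[R] C).comp_algebraMap)
  let x : P1 C j ⟶ P := ov j (Algebra.TensorProduct.includeLeft : B₁ →ₐ[A] C) ≫ σ
  obtain ⟨θ, hθ⟩ := exists_theta t (BC.down f (x ≫ j₀))
  obtain ⟨θC, hθC⟩ : ∃ θC : C, θC = rd (CommRingCat.of C) θ := ⟨_, rfl⟩
  obtain ⟨g, hg, -⟩ := TorsorSch.FibreProd.existsUnique_of_pseudo ha.1 (pr₁ C j ≫ x) (pr₂ C j ≫ x)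
  have hy : (Over.map f).map (pr₂ C j) ≫ BC.down f (x ≫ j₀) =
      lift (BC.down f g ≫ SekSuwa.alphaN R lam N hd) ((Over.map f).map (pr₁ C j) ≫ BC.down f (x ≫ j₀)) ≫
        b'.act := by
    rw [← BC.down_comp, ← BC.down_comp, ← BC.down_map, ← down_bc_act, ← Category.assoc, ← hg]
    refine congrArg _ ?_
    rw [Category.assoc, hj₀, comp_lift_assoc, lift_fst_assoc, lift_snd_assoc, Category.assoc]
  have h12 := IsTheta.unique (hθ.comp ((Over.map f).map (pr₂ C j)))
    (hy ▸ (hθ.comp ((Over.map f).map (pr₁ C j))).act _)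
  rw [chi_alphaN] at h12
  obtain ⟨τ, hτ⟩ : ∃ τ : C ⊗[A] C, τ = rd (CommRingCat.of (C ⊗[A] C)) (tK hd (BC.down f g)) := ⟨_, rfl⟩
  have hcong : (1 : C) ⊗ₜ[A] θC - θC ⊗ₜ 1 = algebraMap R A lam • (τ * (θC ⊗ₜ 1)) := by
    have h := congrArg (rd (CommRingCat.of (C ⊗[A] C))).hom h12
    rw [map_mul, map_add, map_one, map_mul] at h
    have e₂ : (rd (CommRingCat.of (C ⊗[A] C))).hom (((Over.map f).map (pr₂ C j)).left.appTop θ) = (1 : C) ⊗ₜ[A] θC := by
      rw [hθC]
      exact rd_map (CommRingCat.ofHom (Algebra.TensorProduct.includeRight : C →ₐ[A] C ⊗[A] C).toRingHom) θ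
    have e₁ : (rd (CommRingCat.of (C ⊗[A] C))).hom (((Over.map f).map (pr₁ C j)).left.appTop θ) = θC ⊗ₜ[A] 1 := by
      rw [hθC]
      exact rd_map (CommRingCat.ofHom (Algebra.TensorProduct.includeLeft : C →ₐ[A] C ⊗[A] C).toRingHom) θ
    have el : (rd (CommRingCat.of (C ⊗[A] C))).hom
        (algebraMap R Γ(((Over.map f).obj (P2 C j)).left, ⊤) lam) = algebraMap A (C ⊗[A] C) (algebraMap R A lam) :=
      PHS.SekG.rd_lamΓ (f := f) (lam := lam) (C := C ⊗[A] C) j
    erw [e₂, e₁, el, ← hτ] at h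
    refine Eq.trans ?_ (Algebra.smul_def (algebraMap R A lam) (τ * θC ⊗ₜ[A] (1 : C))).symm
    rw [h]
    ring
  obtain ⟨a₀, c₀, hθa⟩ := PHS.SekG.exists_eq_add (algebraMap R A lam) hcong
  have hpow : θC ^ N = algebraMap A C (algebraMap R A rt.u) := by
    rw [hθC, ← map_pow, hθ.pow]
    exact PHS.SekG.rd_lamΓ (f := f) (lam := rt.u) (C := C) j
  refine ⟨a₀, ?_⟩
  have hdvd : algebraMap R C lam ^ N ∣ θC ^ N - algebraMap A C a₀ ^ N := by
    have h := Alg.dvd_add_pow_sub (Alg.dvd_choose_mul hd) (algebraMap A C a₀) c₀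
    rwa [IsScalarTower.algebraMap_apply R A C lam, ← Algebra.smul_def, ← hθa,
      ← IsScalarTower.algebraMap_apply R A C lam] at h
  rw [hpow, IsScalarTower.algebraMap_apply R A C lam, ← map_pow (algebraMap A C), ← map_pow (algebraMap A C),
    ← map_sub] at hdvd
  show algebraMap R A lam ^ N ∣ algebraMap R A rt.u - a₀ ^ N
  rw [← _root_.Ideal.mem_span_singleton,
    ← _root_.Ideal.comap_map_eq_self_of_faithfullyFlat (B := C) (_root_.Ideal.span {algebraMap R A lam ^ N}),
    _root_.Ideal.mem_comap, _root_.Ideal.map_span, Set.image_singleton, _root_.Ideal.mem_span_singleton]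
  exact hdvd

end Groth.Agent.Lib.SekSuwaTors
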