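import Groth.Prelude.Def_SekSuwa
import Mathlib

/-!
# The coordinate ring of `G^(λ)` is flat and of finite presentation
-/

set_option autoImplicit false
universe u

namespace Groth.Agent.Lib.SekSuwaTors

open Polynomial

variable (R : Type u) [CommRing R] (lam : R)

/-- `R[T, 1/(1 + λT)]` as a localisation of the polynomial ring. -/
abbrev Loc : Type u := Localization.Away (1 + C lam * X : R[X])

theorem exists_equiv_loc : Nonempty (Loc R lam ≃ₐ[R] SekSuwa.A R lam) := by
  let e : R[X] := 1 + C lam * X
  have hu : IsUnit (Polynomial.aeval (SekSuwa.A.t : SekSuwa.A R lam) e) := by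
    have : Polynomial.aeval (SekSuwa.A.t : SekSuwa.A R lam) e = SekSuwa.A.u := by
      rw [SekSuwa.A.u_def]; simp [e]
    rw [this]
    exact SekSuwa.A.isUnit_u
  let F : Loc R lam →ₐ[R] SekSuwa.A R lam :=
    IsLocalization.liftAlgHom (M := Submonoid.powers e) (f := Polynomial.aeval SekSuwa.A.t) fun y => by
      obtain ⟨n, hn⟩ := y.2
      rw [← hn, map_pow]
      exact hu.pow n
  have h1 : (1 + lam • algebraMap R[X] (Loc R lam) X) * IsLocalization.Away.invSelf e = 1 := by
    rw [Algebra.smul_def, IsScalarTower.algebraMap_apply R R[X] (Loc R lam), ← map_mul,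
      ← map_one (algebraMap R[X] (Loc R lam)), ← map_add, map_one]
    exact IsLocalization.Away.mul_invSelf (S := Loc R lam) e
  let G : SekSuwa.A R lam →ₐ[R] Loc R lam :=
    SekSuwa.A.lift R lam (algebraMap R[X] (Loc R lam) X) (IsLocalization.Away.invSelf e) h1
  have hFX : F (algebraMap R[X] (Loc R lam) X) = SekSuwa.A.t := by
    rw [IsLocalization.liftAlgHom_apply, IsLocalization.lift_eq]
    simp
  refine ⟨AlgEquiv.ofAlgHom F G ?_ ?_⟩
  · refine SekSuwa.A.algHom_ext ?_ ?_
    · rw [AlgHom.comp_apply, SekSuwa.A.lift_t, hFX]; rfl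
    · refine (SekSuwa.A.isUnit_u).mul_left_cancel ?_
      rw [AlgHom.comp_apply, SekSuwa.A.lift_inv, AlgHom.id_apply, SekSuwa.A.u_mul_inv]
      have h := congrArg F h1
      rw [map_mul, map_add, map_one, map_smul, hFX] at h
      exact h
  · refine IsLocalization.algHom_ext (Submonoid.powers e) ?_
    refine Polynomial.algHom_ext ?_
    simp only [AlgHom.comp_apply, AlgHom.id_apply]
    change G (F (algebraMap R[X] (Loc R lam) X)) = algebraMap R[X] (Loc R lam) X
    rw [hFX]
    exact SekSuwa.A.lift_t ..

theorem flat_A : Module.Flat R (SekSuwa.A R lam) := by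
  obtain ⟨e⟩ := exists_equiv_loc R lam
  have : Module.Flat R[X] (Loc R lam) := IsLocalization.flat _ (Submonoid.powers (1 + C lam * X : R[X]))
  have : Module.Flat R (Loc R lam) := Module.Flat.trans R R[X] (Loc R lam)
  exact Module.Flat.of_linearEquiv e.symm.toLinearEquiv

theorem finitePresentation_A : Algebra.FinitePresentation R (SekSuwa.A R lam) := by
  obtain ⟨e⟩ := exists_equiv_loc R lam
  have : Algebra.FinitePresentation R[X] (Loc R lam) := IsLocalization.Away.finitePresentation (1 + C lam * X : R[X])
  have : Algebra.FinitePresentation R (Loc R lam) := Algebra.FinitePresentation.trans R R[X] (Loc R lam)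
  exact Algebra.FinitePresentation.equiv e

end Groth.Agent.Lib.SekSuwaTors
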