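import Groth.Agent.Lib.SekSuwaTors.GmPts
import Groth.Agent.Lib.SekSuwaTors.GFlat
import Groth.Agent.Lib.TorsPush.Main
import Groth.Agent.Lib.TorsorSch.Basic
import Groth.Agent.Lib.TorsorSch.Descent
import Groth.Agent.Lib.PHS.SekG

/-!
# Triviality of `G^(λ)`-torsors whose image under `α^λ` is trivial
-/

set_option autoImplicit false
set_option linter.style.haveILetI false
set_option linter.unusedSectionVars false

noncomputable section

universe u

open CategoryTheory CategoryTheory.Limits MonoidalCategory CartesianMonoidalCategory AlgebraicGeometry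
open scoped MonObj GrpObj

namespace Groth.Agent.Lib.SekSuwaTors.GTors

open Groth.Agent.Lib.RedPts

variable {R : Type u} [CommRing R] {lam : R} {X : Scheme.{u}} {f : X ⟶ Spec (CommRingCat.of R)}

variable (f lam) in
/-- `α^λ` over `X`. -/
abbrev αX : Red.bc f (SekSuwa.G R lam) ⟶ Red.bc f (Red.diag R ℤ) :=
  (Over.pullback f).map (SekSuwa.alpha R lam)

instance : IsMonHom (αX lam f) :=
  inferInstanceAs (IsMonHom ((Over.pullback f).map (SekSuwa.alpha R lam)))

variable (R lam) in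
theorem group_hom_props [Nontrivial R] :
    IsAffineHom (SekSuwa.G R lam).hom ∧ Flat (SekSuwa.G R lam).hom ∧
      LocallyOfFinitePresentation (SekSuwa.G R lam).hom ∧ Surjective (SekSuwa.G R lam).hom := by
  let φ := CommRingCat.ofHom (algebraMap R (SekSuwa.A R lam))
  have := flat_A R lam
  have := finitePresentation_A R lam
  refine ⟨inferInstanceAs (IsAffineHom (Spec.map φ)), ?_, ?_, ?_⟩
  · exact (HasRingHomProperty.Spec_iff (P := @Flat) (φ := φ)).2 (RingHom.flat_algebraMap_iff.2 inferInstance)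
  · exact (HasRingHomProperty.Spec_iff (P := @LocallyOfFinitePresentation) (φ := φ)).2
      (RingHom.finitePresentation_algebraMap.2 inferInstance)
  · refine ⟨fun x => ?_⟩
    have h := Over.w (1 : 𝟙_ (Over (Spec (CommRingCat.of R))) ⟶ SekSuwa.G R lam)
    refine ⟨(1 : 𝟙_ (Over (Spec (CommRingCat.of R))) ⟶ SekSuwa.G R lam).left x, ?_⟩
    exact congr($h x)

theorem singleton_torsor_mem [Nontrivial R] {P : Over X} (a : AlgGrp.Action (Red.bc f (SekSuwa.G R lam)) P)
    (hP : NonAbH1.IsTorsorFor Scheme.fppfPrecoverage a) :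
    Presieve.singleton P.hom ∈ Scheme.fppfPrecoverage X := by
  obtain ⟨h₁, h₂, h₃, h₄⟩ := group_hom_props R lam
  have hP' := TorsorSch.Descent.isTorsorFor_mono Scheme.fppfPrecoverage_le_fpqcPrecoverage hP
  have : Flat P.hom := TorsorSch.Basic.of_hom (P := @Flat) hP' (MorphismProperty.pullback_snd (P := @Flat) _ f h₂)
  have : LocallyOfFinitePresentation P.hom := TorsorSch.Basic.of_hom (P := @LocallyOfFinitePresentation) hP'
    (MorphismProperty.pullback_snd (P := @LocallyOfFinitePresentation) _ f h₃)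
  have : Surjective P.hom := TorsorSch.Basic.of_hom (P := @Surjective) hP'
    (MorphismProperty.pullback_snd (P := @Surjective) _ f h₄)
  exact P.hom.singleton_mem_fppfPrecoverage

/-- The parameter is a non-zero-divisor on the functions of a flat scheme. -/
theorem eq_zero_of_lamΓ_mul [IsDomain R] (hlam : lam ≠ 0) (W : Over X) [Flat (W.hom ≫ f)]
    {b : Γ(W.left, ⊤)} (h : PHS.SekG.lamΓ lam f W * b = 0) : b = 0 := by
  refine Scheme.zero_of_zero_cover b W.left.affineCover fun i => ?_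
  let j := W.left.affineCover.f i
  let A := Γ(W.left.affineCover.X i, ⊤)
  let ψ : CommRingCat.of R ⟶ A := (Scheme.ΓSpecIso (CommRingCat.of R)).inv ≫ (j ≫ W.hom ≫ f).appTop
  have hflat : ψ.hom.Flat := by
    refine RingHom.Flat.comp ?_ (HasRingHomProperty.appTop (P := @Flat) (j ≫ W.hom ≫ f) inferInstance)
    exact RingHom.Flat.of_bijective (ConcreteCategory.bijective_of_isIso (Scheme.ΓSpecIso (CommRingCat.of R)).inv)
  have hreg : ∀ c : A, ψ.hom lam * c = 0 → c = 0 := by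
    algebraize [ψ.hom]
    have : IsSMulRegular A (algebraMap R A lam) :=
      IsSMulRegular.of_flat (IsRegular.of_ne_zero hlam).left.isSMulRegular
    intro c hc
    exact this (show algebraMap R A lam • c = algebraMap R A lam • 0 by rw [smul_zero]; exact hc)
  refine hreg _ ?_
  have h' := congrArg j.appTop h
  rw [map_mul, map_zero] at h'
  exact h'

/-- A morphism to the closed subscheme where the parameter vanishes. -/
theorem exists_toZero (W : Over X) (h : PHS.SekG.lamΓ lam f W = 0) :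
    ∃ k : W.left ⟶ pullback f (Spec.map (CommRingCat.ofHom (Ideal.Quotient.mk (_root_.Ideal.span ({lam} : Set R))))),
      k ≫ pullback.fst _ _ = W.hom := by
  let β : R →+* Γ(W.left, ⊤) := Points.baseHom ((Over.map f).obj W)
  let β' : R ⧸ _root_.Ideal.span ({lam} : Set R) →+* Γ(W.left, ⊤) :=
    _root_.Ideal.Quotient.lift _ β fun r hr => by
      obtain ⟨c, rfl⟩ := _root_.Ideal.mem_span_singleton'.1 hr
      rw [map_mul, show β lam = 0 from h, mul_zero]
  refine ⟨pullback.lift W.hom (W.left.toSpecΓ ≫ Spec.map (CommRingCat.ofHom β')) ?_, pullback.lift_fst ..⟩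
  rw [Category.assoc, ← Spec.map_comp, ← CommRingCat.ofHom_comp,
    show β'.comp (Ideal.Quotient.mk (_root_.Ideal.span ({lam} : Set R))) = β from RingHom.ext fun _ => rfl]
  exact (Over.w (Points.toSpec ((Over.map f).obj W))).symm

theorem lamΓ_zero :
    PHS.SekG.lamΓ lam f (Over.mk (pullback.fst f
      (Spec.map (CommRingCat.ofHom (Ideal.Quotient.mk (_root_.Ideal.span ({lam} : Set R))))))) = 0 := by
  change (pullback.fst f _ ≫ f).appTop ((Scheme.ΓSpecIso (CommRingCat.of R)).inv lam) = 0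
  rw [pullback.condition, Scheme.Hom.comp_appTop, CommRingCat.comp_apply]
  refine (congrArg _ ((ConcreteCategory.congr_hom
    (Scheme.ΓSpecIso_inv_naturality (CommRingCat.ofHom (Ideal.Quotient.mk (_root_.Ideal.span ({lam} : Set R))))) lam).symm)).trans ?_
  rw [CommRingCat.comp_apply, CommRingCat.ofHom_apply,
    _root_.Ideal.Quotient.eq_zero_iff_mem.2 (_root_.Ideal.mem_span_singleton_self lam), map_zero, map_zero]

variable {P Q : Over X} {a : AlgGrp.Action (Red.bc f (SekSuwa.G R lam)) P}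
  {b : AlgGrp.Action (Red.bc f (Red.diag R ℤ)) Q} (f₀ : P ⟶ Q)

theorem push_pt (he : a.act ≫ f₀ = lift (fst _ _ ≫ αX lam f) (snd _ _ ≫ f₀) ≫ b.act) {T : Over X}
    (g : T ⟶ Red.bc f (SekSuwa.G R lam)) (x : T ⟶ P) :
    (lift g x ≫ a.act) ≫ f₀ = lift (g ≫ αX lam f) (x ≫ f₀) ≫ b.act := by
  rw [Category.assoc, he, comp_lift_assoc, lift_fst_assoc, lift_snd_assoc]

variable {f₀}

theorem alpha_eq_one_of_lamΓ_zero {T : Over X} (h : PHS.SekG.lamΓ lam f T = 0)
    (g : T ⟶ Red.bc f (SekSuwa.G R lam)) : g ≫ αX lam f = 1 := by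
  refine uFn_injective ?_
  rw [uFn_alpha, h, zero_mul, add_zero, uFn_one]

theorem eq_one_of_alpha [IsDomain R] (hlam : lam ≠ 0) {T : Over X} [Flat (T.hom ≫ f)]
    {g : T ⟶ Red.bc f (SekSuwa.G R lam)} (h : g ≫ αX lam f = 1) : g = 1 := by
  refine PHS.SekG.tFn_injective ?_
  have h' := congrArg uFn h
  rw [uFn_alpha, uFn_one, add_eq_left] at h'
  rw [eq_zero_of_lamΓ_mul hlam T h']
  have h1 : (1 : T ⟶ Red.bc f (SekSuwa.G R lam)) ≫ αX lam f = 1 := MonObj.one_comp _
  have h1' := congrArg uFn h1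
  rw [uFn_alpha, uFn_one, add_eq_left] at h1'
  rw [eq_zero_of_lamΓ_mul hlam T h1']

/-- A point of the multiplicative group over an affine scheme which is trivial where the parameter
vanishes lifts along `α^λ`. -/
theorem exists_alpha_eq {W : Over X} [IsAffine W.left] (v : W ⟶ Red.bc f (Red.diag R ℤ))
    (hv : ∀ (W' : Over X) (k : W' ⟶ W), PHS.SekG.lamΓ lam f W' = 0 → k ≫ v = 1) :
    ∃ g : W ⟶ Red.bc f (SekSuwa.G R lam), g ≫ αX lam f = v := by
  obtain ⟨c, hc⟩ := (isUnit_uFn v).exists_right_inv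
  let A := Γ(W.left, ⊤)
  let l : A := PHS.SekG.lamΓ lam f W
  let q : A ⟶ CommRingCat.of (A ⧸ _root_.Ideal.span ({l} : Set A)) :=
    CommRingCat.ofHom (_root_.Ideal.Quotient.mk _)
  let W' : Over X := Over.mk ((Spec.map q ≫ W.left.isoSpec.inv) ≫ W.hom)
  let k : W' ⟶ W := Over.homMk (Spec.map q ≫ W.left.isoSpec.inv) rfl
  have hk : ∀ z : A, (k.left.appTop z = 0 ↔ z ∈ _root_.Ideal.span ({l} : Set A)) := by
    intro z
    have e0 : W.left.isoSpec.inv.appTop = (Scheme.ΓSpecIso A).inv :=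
      (Iso.hom_comp_eq_id _).1 (by
        rw [← Scheme.toSpecΓ_appTop, ← Scheme.Hom.comp_appTop, Scheme.isoSpec_inv_toSpecΓ, Scheme.Hom.id_appTop])
    have e : k.left.appTop z =
        (Scheme.ΓSpecIso (CommRingCat.of (A ⧸ _root_.Ideal.span ({l} : Set A)))).inv
          (_root_.Ideal.Quotient.mk (_root_.Ideal.span ({l} : Set A)) z) := by
      change (Spec.map q ≫ W.left.isoSpec.inv).appTop z = _
      rw [Scheme.Hom.comp_appTop, e0]
      exact (ConcreteCategory.congr_hom (Scheme.ΓSpecIso_inv_naturality q) z).symm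
    rw [e, ← _root_.Ideal.Quotient.eq_zero_iff_mem]
    exact map_eq_zero_iff _ (ConcreteCategory.bijective_of_isIso
      (Scheme.ΓSpecIso (CommRingCat.of (A ⧸ _root_.Ideal.span ({l} : Set A)))).inv).1
  have h0 : PHS.SekG.lamΓ lam f W' = 0 := by
    rw [← PHS.SekG.lamΓ_comp (lam := lam) (f := f) k]
    exact (hk l).2 (_root_.Ideal.mem_span_singleton_self _)
  have h1 := congrArg uFn (hv W' k h0)
  rw [uFn_comp, uFn_one] at h1
  obtain ⟨d, hd⟩ := _root_.Ideal.mem_span_singleton.1 ((hk (uFn v - 1)).1 (by rw [map_sub, h1, map_one, sub_self]))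
  obtain ⟨g, hg⟩ := PHS.SekG.exists_tFn_eq (lam := lam) (f := f) (W := W) (b := d) (c := c)
    (by linear_combination hc - c * hd)
  refine ⟨g, uFn_injective ?_⟩
  rw [uFn_alpha, hg]
  linear_combination -hd

/-- A `G^(λ)`-torsor whose push-out along `α^λ` has a section has a section, when units lift from
the locus where the parameter vanishes. -/
theorem hasSection [IsDomain R] (hlam : lam ≠ 0) [Flat f]
    (hunit : Function.Surjective (Units.map
      (pullback.fst f (Spec.map (CommRingCat.ofHom (Ideal.Quotient.mk (_root_.Ideal.span ({lam} : Set R)))))).appTop.hom.toMonoidHom))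
    (hP : NonAbH1.IsTorsorFor Scheme.fpqcPrecoverage a) (hb : NonAbH1.IsPseudoTorsorSch b)
    (he : a.act ≫ f₀ = lift (fst _ _ ≫ αX lam f) (snd _ _ ≫ f₀) ≫ b.act)
    (hσ : NonAbH1.HasSectionOver Q (𝟙 X)) : NonAbH1.HasSectionOver P (𝟙 X) := by
  obtain ⟨σ₀, hσ₀⟩ := hσ
  let σ : 𝟙_ (Over X) ⟶ Q := Over.homMk σ₀ hσ₀
  -- affine charts with sections
  obtain ⟨hps, Rv, hRv, hsec⟩ := PHS.SekG.isTorsorFor_zariski hlam a hP
  obtain ⟨𝒰, rfl⟩ := Precoverage.mem_iff_exists_zeroHypercover.mp hRv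
  have hchart : ∀ x : X, ∃ U : X.Opens, x ∈ U ∧ IsAffineOpen U ∧ NonAbH1.HasSectionOver P U.ι := by
    intro x
    obtain ⟨i, y, hy⟩ := Scheme.Cover.exists_eq 𝒰 x
    have : IsOpenImmersion (𝒰.f i) := Scheme.Cover.map_prop 𝒰 i
    obtain ⟨U, hU, hxU, hle⟩ := exists_isAffineOpen_mem_and_subset (x := x) (U := (𝒰.f i).opensRange) ⟨y, hy⟩
    obtain ⟨s, hs⟩ := hsec (𝒰.f i) (Presieve.ofArrows.mk i)
    refine ⟨U, hxU, hU, IsOpenImmersion.lift (𝒰.f i) U.ι (by rw [Scheme.Opens.range_ι]; exact hle) ≫ s, ?_⟩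
    rw [Category.assoc, hs, IsOpenImmersion.lift_fac]
  choose U hxU hU hsU using hchart
  choose s₀ hs₀ using hsU
  let W : X → Over X := fun x => Over.mk (U x).ι
  let s : ∀ x, W x ⟶ P := fun x => Over.homMk (s₀ x) (hs₀ x)
  choose u hu hu' using fun x => TorsorSch.FibreProd.existsUnique_of_pseudo hb (toUnit (W x) ≫ σ) (s x ≫ f₀)
  -- the units agree where the parameter vanishes
  have hagree : ∀ (W' : Over X) (x y : X) (k₁ : W' ⟶ W x) (k₂ : W' ⟶ W y),
      PHS.SekG.lamΓ lam f W' = 0 → k₁ ≫ u x = k₂ ≫ u y := by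
    intro W' x y k₁ k₂ h0
    obtain ⟨g, hg, -⟩ := TorsorSch.FibreProd.existsUnique_of_pseudo hP.1 (k₁ ≫ s x) (k₂ ≫ s y)
    have h1 := congrArg (· ≫ f₀) hg
    simp only [push_pt f₀ he, alpha_eq_one_of_lamΓ_zero h0 g, GrpSch.act_one] at h1
    have h2 : ∀ (z : X) (k : W' ⟶ W z), lift (k ≫ u z) (toUnit W' ≫ σ) ≫ b.act = (k ≫ s z) ≫ f₀ := by
      intro z k
      rw [Category.assoc, ← hu z, comp_lift_assoc, comp_toUnit_assoc]
    exact (TorsorSch.FibreProd.existsUnique_of_pseudo hb (toUnit W' ≫ σ) _).unique (h2 x k₁)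
      ((h2 y k₂).trans h1.symm)
  -- glue them there
  obtain ⟨i, hi⟩ : ∃ i, i = pullback.fst f
      (Spec.map (CommRingCat.ofHom (Ideal.Quotient.mk (_root_.Ideal.span ({lam} : Set R))))) := ⟨_, rfl⟩
  rw [← hi] at hunit
  let Z : Over X := Over.mk i
  have hZ : PHS.SekG.lamΓ lam f Z = 0 := by
    have := lamΓ_zero (R := R) (lam := lam) (f := f)
    rwa [← hi] at this
  let O : X → Z.left.Opens := fun x => i ⁻¹ᵁ U x
  have hO : TopologicalSpace.IsOpenCover O := .mk (top_unique fun z _ =>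
    TopologicalSpace.Opens.mem_iSup.2 ⟨i z, hxU (i z)⟩)
  let 𝒱 := Z.left.openCoverOfIsOpenCover O hO
  let r : ∀ x, Over.mk ((O x).ι ≫ i) ⟶ W x := fun x =>
    Over.homMk (i ∣_ U x) (morphismRestrict_ι i (U x))
  have hov : ∀ x y, pullback.fst (𝒱.f x) (𝒱.f y) ≫ (r x ≫ u x).left =
      pullback.snd (𝒱.f x) (𝒱.f y) ≫ (r y ≫ u y).left := by
    intro x y
    let W' : Over X := Over.mk ((pullback.fst (𝒱.f x) (𝒱.f y) ≫ (O x).ι) ≫ i)
    let l₁ : W' ⟶ Over.mk ((O x).ι ≫ i) := Over.homMk (pullback.fst (𝒱.f x) (𝒱.f y)) (Category.assoc _ _ _).symm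
    let l₂ : W' ⟶ Over.mk ((O y).ι ≫ i) := Over.homMk (pullback.snd (𝒱.f x) (𝒱.f y))
      ((Category.assoc _ _ _).symm.trans (congrArg (· ≫ i) pullback.condition.symm))
    have h0 : PHS.SekG.lamΓ lam f W' = 0 := by
      rw [← PHS.SekG.lamΓ_comp (lam := lam) (f := f)
        (Over.homMk (pullback.fst (𝒱.f x) (𝒱.f y) ≫ (O x).ι) rfl : W' ⟶ Z), hZ, map_zero]
    have := congrArg Over.Hom.left (hagree W' x y (l₁ ≫ r x) (l₂ ≫ r y) h0)
    simp only [Category.assoc, Over.comp_left] at this ⊢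
    exact this
  let e₀ : Z.left ⟶ (Red.bc f (Red.diag R ℤ)).left :=
    Scheme.Cover.glueMorphisms 𝒱 (fun x => (r x ≫ u x).left) hov
  have he₀ : ∀ x, (O x).ι ≫ e₀ = (r x ≫ u x).left := fun x => Scheme.Cover.ι_glueMorphisms 𝒱 _ hov x
  let e : Z ⟶ Red.bc f (Red.diag R ℤ) := Over.homMk e₀ (Scheme.Cover.hom_ext 𝒱 _ _ fun x =>
    ((Category.assoc _ _ _).symm.trans (congrArg (· ≫ _) (he₀ x))).trans (Over.w (r x ≫ u x)))
  -- the global unit
  obtain ⟨w, hw⟩ := hunit (isUnit_uFn e).unit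
  have hw' : i.appTop (w : Γ(X, ⊤)) = uFn e := congrArg Units.val hw
  obtain ⟨z, hz⟩ := exists_uFn_eq (f := f) (W := 𝟙_ (Over X)) (e := (w : Γ(X, ⊤))) w.isUnit
  have hze : toUnit Z ≫ z = e := uFn_injective (by rw [uFn_comp, hz]; exact hw')
  have hzu : ∀ (W' : Over X) (x : X) (k : W' ⟶ W x), PHS.SekG.lamΓ lam f W' = 0 →
      toUnit W' ≫ z = k ≫ u x := by
    intro W' x k h0
    obtain ⟨h, hh⟩ := exists_toZero W' h0
    let h' : W'.left ⟶ Z.left := h
    have hh' : h' ≫ i = W'.hom := by rw [hi]; exact hh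
    have hr : Set.range h' ⊆ Set.range (O x).ι := by
      rw [Scheme.Opens.range_ι]
      rintro _ ⟨t, rfl⟩
      show i (h' t) ∈ U x
      rw [show i (h' t) = (k.left ≫ (U x).ι) t from (congr($hh' t)).trans (congr($(Over.w k) t)).symm]
      exact (k.left t).2
    let t : W' ⟶ Over.mk ((O x).ι ≫ i) := Over.homMk (IsOpenImmersion.lift (O x).ι h' hr) (by
      show IsOpenImmersion.lift (O x).ι h' hr ≫ (O x).ι ≫ i = W'.hom
      rw [IsOpenImmersion.lift_fac_assoc, hh'])
    let hZ' : W' ⟶ Z := Over.homMk h' hh'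
    have e1 : hZ' ≫ e = t ≫ r x ≫ u x := Over.OverMorphism.ext (by
      show h' ≫ e₀ = IsOpenImmersion.lift (O x).ι h' hr ≫ (r x ≫ u x).left
      rw [← he₀ x, IsOpenImmersion.lift_fac_assoc])
    rw [show toUnit W' ≫ z = hZ' ≫ e by rw [← hze, comp_toUnit_assoc], e1, ← Category.assoc]
    exact hagree W' x x _ k h0
  -- the lifted sections
  let σ' : 𝟙_ (Over X) ⟶ Q := lift z σ ≫ b.act
  have hs' : ∀ x, ∃ s' : W x ⟶ P, s' ≫ f₀ = toUnit (W x) ≫ σ' := by
    intro x
    have : IsAffine (W x).left := hU x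
    obtain ⟨g, hg⟩ := exists_alpha_eq ((toUnit (W x) ≫ z) * (u x)⁻¹) fun W' k h0 => by
      rw [MonObj.comp_mul, GrpObj.comp_inv, comp_toUnit_assoc, hzu W' x k h0, mul_inv_cancel]
    refine ⟨lift g (s x) ≫ a.act, ?_⟩
    rw [push_pt f₀ he, hg, ← hu x, ← GrpSch.act_mul, inv_mul_cancel_right, comp_lift_assoc]
  choose s' hs' using hs'
  -- glue them
  have hU' : TopologicalSpace.IsOpenCover U := .mk (top_unique fun z _ =>
    TopologicalSpace.Opens.mem_iSup.2 ⟨z, hxU z⟩)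
  let 𝒲 := X.openCoverOfIsOpenCover U hU'
  have hov' : ∀ x y, pullback.fst (𝒲.f x) (𝒲.f y) ≫ (s' x).left =
      pullback.snd (𝒲.f x) (𝒲.f y) ≫ (s' y).left := by
    intro x y
    let W' : Over X := Over.mk (pullback.fst (𝒲.f x) (𝒲.f y) ≫ (U x).ι)
    have : Flat W'.hom := inferInstanceAs (Flat (pullback.fst (U x).ι (U y).ι ≫ (U x).ι))
    let l₁ : W' ⟶ W x := Over.homMk (pullback.fst (𝒲.f x) (𝒲.f y)) rfl
    let l₂ : W' ⟶ W y := Over.homMk (pullback.snd (𝒲.f x) (𝒲.f y)) pullback.condition.symm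
    obtain ⟨g, hg, -⟩ := TorsorSch.FibreProd.existsUnique_of_pseudo hP.1 (l₁ ≫ s' x) (l₂ ≫ s' y)
    have h1 := congrArg (· ≫ f₀) hg
    simp only [push_pt f₀ he, Category.assoc, hs', comp_toUnit_assoc] at h1
    have h2 := (TorsorSch.FibreProd.existsUnique_of_pseudo hb _ _).unique h1
      (GrpSch.act_one b (toUnit W' ≫ σ'))
    rw [eq_one_of_alpha hlam h2, GrpSch.act_one] at hg
    exact congrArg Over.Hom.left hg
  refine ⟨Scheme.Cover.glueMorphisms 𝒲 (fun x => (s' x).left) hov', Scheme.Cover.hom_ext 𝒲 _ _ fun x => ?_⟩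
  rw [← Category.assoc, Scheme.Cover.ι_glueMorphisms, Category.comp_id]
  exact Over.w (s' x)

end Groth.Agent.Lib.SekSuwaTors.GTors
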