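import Groth.Agent.Lib.SekSuwaTors.Twist
import Groth.Agent.Lib.SekSuwaTors.Transfer
import Groth.Agent.Lib.TorsorSch.Ext
import Groth.Agent.Lib.PHS.SekG
import Mathlib.AlgebraicGeometry.FunctionField

/-!
# `α^{λ,N}` is an isomorphism over the generic point, and comparison of torsors there
-/

set_option autoImplicit false
set_option linter.style.haveILetI false

noncomputable section

universe u

open CategoryTheory CategoryTheory.Limits MonoidalCategory CartesianMonoidalCategory AlgebraicGeometry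
open scoped TensorProduct MonObj

namespace Groth.Agent.Lib.SekSuwaTors

open Groth.Agent.Lib.RedPts

attribute [local instance] Points.baseAlgebra

variable {R : Type u} [CommRing R] {lam : R} {X : Scheme.{u}}

/-- A non-zero parameter is invertible at the generic point of a flat integral scheme. -/
theorem isUnit_lamΓ_genOver [IsDomain R] [IsIntegral X] (f : X ⟶ Spec (CommRingCat.of R)) [Flat f]
    (hlam : lam ≠ 0) : IsUnit (PHS.SekG.lamΓ lam f (TorsorSch.Ext.genOver X)) := by
  let ξ := X.fromSpecStalk (genericPoint X)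
  let φ : CommRingCat.of R ⟶ X.functionField := Spec.preimage (ξ ≫ f)
  have hφ : Spec.map φ = ξ ≫ f := Spec.map_preimage _
  have hgen : f (genericPoint X) = (⟨⊥, _root_.Ideal.isPrime_bot⟩ : PrimeSpectrum R) := by
    obtain ⟨y, hy, hfy⟩ := Flat.generalizingMap f
      (show (⟨⊥, _root_.Ideal.isPrime_bot⟩ : PrimeSpectrum R) ⤳ f (genericPoint X) from
        (PrimeSpectrum.le_iff_specializes _ _).1 (bot_le : (⊥ : _root_.Ideal R) ≤ _))
    rw [← hfy]
    exact congrArg _ ((genericPoint_specializes y).antisymm hy).eq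
  have hne : φ.hom lam ≠ 0 := by
    intro h0
    have h1 : lam ∈ (PrimeSpectrum.comap φ.hom (IsLocalRing.closedPoint X.functionField)).asIdeal := by
      show φ.hom lam ∈ IsLocalRing.maximalIdeal X.functionField
      rw [h0]
      exact zero_mem _
    have h2 : PrimeSpectrum.comap φ.hom (IsLocalRing.closedPoint X.functionField) = f (genericPoint X) := by
      show (Spec.map φ) (IsLocalRing.closedPoint X.functionField) = _
      rw [hφ]
      show f (ξ (IsLocalRing.closedPoint X.functionField)) = _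
      congr 1
      exact Scheme.fromSpecStalk_closedPoint
    rw [h2, hgen] at h1
    exact hlam h1
  have e : PHS.SekG.lamΓ lam f (TorsorSch.Ext.genOver X) = (Scheme.ΓSpecIso X.functionField).inv (φ.hom lam) := by
    show ((ξ ≫ f).appTop) ((Scheme.ΓSpecIso (CommRingCat.of R)).inv lam) = _
    rw [← hφ]
    exact DFunLike.congr_fun (congrArg CommRingCat.Hom.hom (Scheme.ΓSpecIso_inv_naturality φ)).symm lam
  rw [e]
  exact (isUnit_iff_ne_zero.2 hne).map _

variable {N : ℕ} [NeZero N] {hd : SekSuwa.DivCond lam N}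

/-- Where the parameter is invertible, `α^{λ,N}` is an isomorphism. -/
theorem isIso_alphaN_whiskerRight (f : X ⟶ Spec (CommRingCat.of R)) (T : Over X)
    (hT : IsUnit (PHS.SekG.lamΓ lam f T)) :
    IsIso ((Over.pullback f).map (SekSuwa.alphaN R lam N hd) ▷ T) := by
  let αX : Red.bc f (SekSuwa.GK R lam N hd) ⟶ Red.bc f (Red.diag R (ZMod N)) :=
    (Over.pullback f).map (SekSuwa.alphaN R lam N hd)
  have hunit : ∀ {W : Over X} (_ : W ⟶ T), IsUnit (algebraMap R Γ(((Over.map f).obj W).left, ⊤) lam) := by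
    intro W k
    have e := PHS.SekG.lamΓ_comp (lam := lam) (f := f) k
    show IsUnit (PHS.SekG.lamΓ lam f W)
    rw [← e]
    exact hT.map _
  let W := Red.bc f (Red.diag R (ZMod N)) ⊗ T
  let z : (Over.map f).obj W ⟶ Red.diag R (ZMod N) := BC.down f (fst _ _)
  obtain ⟨li, hli⟩ := (hunit (snd (Red.bc f (Red.diag R (ZMod N))) T)).exists_right_inv
  have hz : 1 + algebraMap R Γ(((Over.map f).obj W).left, ⊤) lam * ((chi z - 1) * li) = chi z := by
    linear_combination (chi z - 1) * hli
  obtain ⟨k, hk⟩ := exists_tK (hd := hd) ((chi z - 1) * li) (by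
    have h := SekSuwa.aeval_psiPoly hd ((chi z - 1) * li)
    rw [hz, chi_pow, sub_self, map_pow] at h
    exact ((hunit (snd (Red.bc f (Red.diag R (ZMod N))) T)).pow N).mul_right_eq_zero.1 h)
  have hkz : k ≫ SekSuwa.alphaN R lam N hd = z := chi_injective (by rw [chi_alphaN, hk, hz])
  have hup : BC.up f k ≫ αX = fst _ _ := BC.down_injective (by rw [BC.down_map, BC.down_up, hkz])
  refine ⟨lift (BC.up f k) (snd _ _), ?_, ?_⟩
  · apply CartesianMonoidalCategory.hom_ext
    · refine BC.down_injective (tK_injective ?_)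
      rw [Category.assoc, lift_fst, Category.id_comp]
      refine (hunit (snd (Red.bc f (SekSuwa.GK R lam N hd)) T)).mul_left_cancel ?_
      refine add_left_cancel (a := 1) ?_
      rw [← chi_alphaN, ← chi_alphaN, ← BC.down_map, ← BC.down_map, Category.assoc, hup]
      exact congrArg (fun y => chi (BC.down f y)) (whiskerRight_fst _ _)
    · rw [Category.assoc, lift_snd, whiskerRight_snd, Category.id_comp]
  · apply CartesianMonoidalCategory.hom_ext
    · rw [Category.assoc, whiskerRight_fst, lift_fst_assoc, Category.id_comp]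
      exact hup
    · rw [Category.assoc, whiskerRight_snd, lift_snd, Category.id_comp]

variable {G G' P P' Q : Over X} [GrpObj G] [GrpObj G']

/-- Two torsors with maps to a third one along a homomorphism invertible over `T` agree over `T`. -/
theorem exists_equivariantOver {a : AlgGrp.Action G P} {q : AlgGrp.Action G Q} {a' : AlgGrp.Action G' P'}
    (g : G ⟶ G') {T : Over X} [IsIso (g ▷ T)] (hq : NonAbH1.IsTorsorFor Scheme.fpqcPrecoverage q)
    (ha' : NonAbH1.IsPseudoTorsorSch a')
    (j₀ : P ⟶ P') (hj₀ : a.act ≫ j₀ = lift (fst G P ≫ g) (snd G P ≫ j₀) ≫ a'.act)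
    (β : Q ⟶ P') (hβ : q.act ≫ β = lift (fst G Q ≫ g) (snd G Q ≫ β) ≫ a'.act) :
    ∃ h : P ⊗ T ⟶ Q, TorsorSch.Ext.EquivariantOver a q h := by
  have := isIso_whiskerRight_of_push g (T := T) hq ha' β hβ
  let h : P ⊗ T ⟶ Q := (j₀ ▷ T) ≫ inv (β ▷ T) ≫ fst _ _
  have hh : h ≫ β = fst _ _ ≫ j₀ := by
    show ((j₀ ▷ T) ≫ inv (β ▷ T) ≫ fst _ _) ≫ β = _
    rw [Category.assoc, Category.assoc, ← whiskerRight_fst β T, IsIso.inv_hom_id_assoc, whiskerRight_fst]
  refine ⟨h, ?_⟩
  have inj : ∀ {W : Over X} (u₁ u₂ : W ⟶ Q) (_ : W ⟶ T), u₁ ≫ β = u₂ ≫ β → u₁ = u₂ := by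
    intro W u₁ u₂ s e
    have e' : lift u₁ s ≫ (β ▷ T) = lift u₂ s ≫ (β ▷ T) := by
      rw [lift_whiskerRight, lift_whiskerRight, e]
    simpa using congrArg (· ≫ fst _ _) ((cancel_mono (β ▷ T)).1 e')
  refine inj _ _ (snd _ _) ?_
  rw [Category.assoc, hh, whiskerRight_fst_assoc, hj₀, Category.assoc, Category.assoc, hβ]
  simp only [← Category.assoc]
  congr 1
  apply CartesianMonoidalCategory.hom_ext
  · simp
  · simp [hh]

end Groth.Agent.Lib.SekSuwaTors
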