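import Groth.Prelude.Def_SekSuwa
import Groth.Prelude.Def_NonAbH2
import Groth.Agent.Lib.PHS.SekG
import Groth.Agent.Lib.RedPts.Points
import Groth.Agent.Lib.RedPts.BC
import Groth.Agent.Lib.SekSuwaTors.Twist

/-!
# Points of the split multiplicative group and the homomorphism `α^λ`
-/

set_option autoImplicit false
set_option linter.style.haveILetI false

noncomputable section

universe u

open CategoryTheory CategoryTheory.Limits MonoidalCategory CartesianMonoidalCategory AlgebraicGeometry
open scoped MonObj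

namespace Groth.Agent.Lib.SekSuwaTors

open Groth.Agent.Lib.RedPts

attribute [local instance] Points.baseAlgebra

variable {R : Type u} [CommRing R] {lam : R} {X : Scheme.{u}} {f : X ⟶ Spec (CommRingCat.of R)}

/-- The generator of `R[ℤ]`. -/
abbrev genZ (R : Type u) [CommRing R] : MonoidAlgebra R (Multiplicative ℤ) :=
  MonoidAlgebra.single (Multiplicative.ofAdd 1) 1

/-- The unit defined by a point of the multiplicative group. -/
def uFn {W : Over X} (z : W ⟶ Red.bc f (Red.diag R ℤ)) : Γ(W.left, ⊤) :=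
  Points.algHomOf (BC.down f z) (genZ R)

theorem uFn_comp {W W' : Over X} (h : W' ⟶ W) (z : W ⟶ Red.bc f (Red.diag R ℤ)) :
    uFn (h ≫ z) = h.left.appTop (uFn z) := by
  rw [uFn, BC.down_comp]
  exact Points.ringHomOf_comp h.left _ _

theorem uFn_mul {W : Over X} (z z' : W ⟶ Red.bc f (Red.diag R ℤ)) : uFn (z * z') = uFn z * uFn z' := by
  rw [uFn, BC.down_mul]
  apply Points.ringHomOf_mul_of_isGroupLike
  simp [genZ]

theorem uFn_one {W : Over X} : uFn (1 : W ⟶ Red.bc f (Red.diag R ℤ)) = 1 := by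
  rw [uFn, BC.down_one, Points.algHomOf_one]
  simp [genZ]

theorem isUnit_uFn {W : Over X} (z : W ⟶ Red.bc f (Red.diag R ℤ)) : IsUnit (uFn z) :=
  .of_mul_eq_one (uFn z⁻¹) (by rw [← uFn_mul, mul_inv_cancel, uFn_one])

theorem uFn_injective {W : Over X} {z z' : W ⟶ Red.bc f (Red.diag R ℤ)} (h : uFn z = uFn z') :
    z = z' := by
  refine BC.down_injective (Points.algHomOf_injective (MonoidAlgebra.algHom_ext (fun a => ?_) (Subsingleton.elim _ _)))
  let F := (Points.algHomOf (BC.down f z)).toRingHom.toMonoidHom.comp (MonoidAlgebra.of R (Multiplicative ℤ))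
  let F' := (Points.algHomOf (BC.down f z')).toRingHom.toMonoidHom.comp (MonoidAlgebra.of R (Multiplicative ℤ))
  have e : F = F' := MonoidHom.ext_mint h
  exact DFunLike.congr_fun e a

theorem exists_uFn_eq {W : Over X} {e : Γ(W.left, ⊤)} (he : IsUnit e) :
    ∃ z : W ⟶ Red.bc f (Red.diag R ℤ), uFn z = e := by
  obtain ⟨e', he'⟩ : ∃ e' : Γ(((Over.map f).obj W).left, ⊤), e' = e := ⟨e, rfl⟩
  have hu : IsUnit e' := he'.symm ▸ he
  refine ⟨BC.up f (Points.pointOf (MonoidAlgebra.lift R Γ(((Over.map f).obj W).left, ⊤) (Multiplicative ℤ)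
    ((Units.coeHom _).comp (zpowersHom _ hu.unit)))), ?_⟩
  rw [uFn, BC.down_up, Points.algHomOf_pointOf]
  have key : MonoidAlgebra.lift R Γ(((Over.map f).obj W).left, ⊤) (Multiplicative ℤ)
      ((Units.coeHom _).comp (zpowersHom _ hu.unit)) (genZ R) = e' := by
    rw [MonoidAlgebra.lift_single, one_smul]
    simp
  exact key.trans he'

/-- `α^λ` on points. -/
theorem uFn_alpha {W : Over X} (x : W ⟶ Red.bc f (SekSuwa.G R lam)) :
    uFn (x ≫ (Over.pullback f).map (SekSuwa.alpha R lam)) =
      1 + PHS.SekG.lamΓ lam f W * PHS.SekG.tFn x := by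
  rw [uFn, BC.down_map, Points.algHomOf_apply, Over.comp_left, SekSuwa.alpha, SekSuwa.specHom_left]
  refine (ringHomOf_specMap (A := MonoidAlgebra R (Multiplicative ℤ)) (A' := SekSuwa.A R lam)
    (BC.down f x).left _ _).trans ?_
  change Points.algHomOf (BC.down f x) (SekSuwa.alphaHom R lam (genZ R)) = _
  rw [SekSuwa.alphaHom_single_one, SekSuwa.A.u_def, map_add, map_one, map_mul, AlgHom.commutes]
  rfl

end Groth.Agent.Lib.SekSuwaTors
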