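import Groth.Prelude.Def_Red
import Groth.Prelude.Def_NonAbH2
import Groth.Agent.Lib.PHS.Basic
import Groth.Agent.Lib.PHS.SekG
import Groth.Agent.Lib.RedPts.Points
import Groth.Agent.Lib.EtH1Gm.RingDesc
import Groth.Agent.Lib.GrpSch.Basic
import Mathlib.RingTheory.Ideal.GoingDown

/-!
# Torsors under roots of unity over a local base as schemes of roots of a unit
-/

set_option autoImplicit false
set_option linter.style.haveILetI false

noncomputable section

universe u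

open CategoryTheory CategoryTheory.Limits MonoidalCategory CartesianMonoidalCategory AlgebraicGeometry
open scoped TensorProduct MonObj

namespace Groth.Agent.Lib.SekSuwaTors

open Groth.Agent.Lib.RedPts Groth.Agent.Lib.PHS.Basic

attribute [local instance] Points.baseAlgebra

variable {R : Type u} [CommRing R] {N : ℕ}

/-! ### Points of the group of roots of unity -/

/-- The generator of the group algebra. -/
abbrev gen (R : Type u) [CommRing R] (N : ℕ) : MonoidAlgebra R (Multiplicative (ZMod N)) :=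
  MonoidAlgebra.single (Multiplicative.ofAdd 1) 1

/-- The value of a point on the generator. -/
def chi {T : Over (Spec (CommRingCat.of R))} (z : T ⟶ Red.diag R (ZMod N)) : Γ(T.left, ⊤) :=
  Points.ringHomOf z.left (gen R N)

theorem chi_mul {T : Over (Spec (CommRingCat.of R))} (z z' : T ⟶ Red.diag R (ZMod N)) :
    chi (z * z') = chi z * chi z' := by
  apply Points.ringHomOf_mul_of_isGroupLike
  simp [gen]

theorem chi_one {T : Over (Spec (CommRingCat.of R))} :
    chi (1 : T ⟶ Red.diag R (ZMod N)) = 1 := by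
  rw [chi, ← Points.algHomOf_apply, Points.algHomOf_one]
  simp [gen]

theorem chi_comp {T T' : Over (Spec (CommRingCat.of R))} (h : T' ⟶ T) (z : T ⟶ Red.diag R (ZMod N)) :
    chi (h ≫ z) = h.left.appTop (chi z) :=
  Points.ringHomOf_comp h.left _ _

theorem chi_pow [NeZero N] {T : Over (Spec (CommRingCat.of R))} (z : T ⟶ Red.diag R (ZMod N)) :
    chi z ^ N = 1 := by
  rw [chi, ← map_pow, MonoidAlgebra.single_pow, one_pow, ← ofAdd_nsmul, nsmul_one, ZMod.natCast_self,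
    ofAdd_zero, ← MonoidAlgebra.one_def, map_one]

theorem single_eq_gen_pow [NeZero N] (a : Multiplicative (ZMod N)) :
    (MonoidAlgebra.single a 1 : MonoidAlgebra R (Multiplicative (ZMod N))) =
      gen R N ^ (Multiplicative.toAdd a).val := by
  rw [MonoidAlgebra.single_pow, one_pow, ← ofAdd_nsmul, nsmul_one, ZMod.natCast_zmod_val, ofAdd_toAdd]

theorem chi_injective [NeZero N] {T : Over (Spec (CommRingCat.of R))} {z z' : T ⟶ Red.diag R (ZMod N)}
    (h : chi z = chi z') : z = z' := by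
  refine Points.algHomOf_injective (MonoidAlgebra.algHom_ext (fun a => ?_) (Subsingleton.elim _ _))
  rw [single_eq_gen_pow, map_pow, map_pow]
  exact congrArg (· ^ _) h

theorem exists_chi [NeZero N] {T : Over (Spec (CommRingCat.of R))} (e : Γ(T.left, ⊤)) (he : e ^ N = 1) :
    ∃ z : T ⟶ Red.diag R (ZMod N), chi z = e := by
  have hmul : ∀ a b : ZMod N, e ^ (a + b).val = e ^ a.val * e ^ b.val := fun a b => by
    rw [← pow_add, ZMod.val_add, ← pow_eq_pow_mod _ he]
  let F : Multiplicative (ZMod N) →* Γ(T.left, ⊤) :=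
    { toFun := fun a => e ^ (Multiplicative.toAdd a).val
      map_one' := by simp
      map_mul' := fun a b => hmul _ _ }
  refine ⟨Points.pointOf (MonoidAlgebra.lift R Γ(T.left, ⊤) (Multiplicative (ZMod N)) F), ?_⟩
  rw [chi, ← Points.algHomOf_apply, Points.algHomOf_pointOf]
  refine (MonoidAlgebra.lift_single (R := R) F _ _).trans ?_
  rw [one_smul]
  show e ^ (1 : ZMod N).val = e
  rcases eq_or_ne N 1 with h | h
  · subst h
    rw [pow_one] at he
    simp [he]
  · rw [show (1 : ZMod N).val = 1 by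
      have : Fact (1 < N) := ⟨by have := NeZero.ne N; omega⟩
      exact ZMod.val_one N, pow_one]

/-! ### Points of a spectrum -/

variable {B : Type u} [CommRing B] [Algebra R B]

variable (R B) in
/-- The spectrum of an algebra over the base. -/
abbrev SB : Over (Spec (CommRingCat.of R)) := P1 B (𝟙 (Spec (CommRingCat.of R)))

/-- The ring map of a point of a spectrum. -/
def sfn {T : Over (Spec (CommRingCat.of R))} (t : T ⟶ SB R B) : B →+* Γ(T.left, ⊤) :=
  Points.ringHomOf t.left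

theorem sfn_comp {T T' : Over (Spec (CommRingCat.of R))} (h : T' ⟶ T) (t : T ⟶ SB R B) (b : B) :
    sfn (h ≫ t) b = h.left.appTop (sfn t b) :=
  Points.ringHomOf_comp h.left _ _

theorem sfn_algebraMap {T : Over (Spec (CommRingCat.of R))} (t : T ⟶ SB R B) (r : R) :
    sfn t (algebraMap R B r) = algebraMap R Γ(T.left, ⊤) r :=
  Points.ringHomOf_algebraMap' T t.left ((congrArg (t.left ≫ ·) (Category.comp_id _).symm).trans (Over.w t)) r

/-- The algebra map of a point of a spectrum. -/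
def sAlg {T : Over (Spec (CommRingCat.of R))} (t : T ⟶ SB R B) : B →ₐ[R] Γ(T.left, ⊤) :=
  { sfn t with commutes' := sfn_algebraMap t }

variable {C : Type u} [CommRing C] [Algebra R C]

/-- The point of a spectrum defined by an algebra map. -/
def sPoint {T : Over (Spec (CommRingCat.of R))} (φ : C →ₐ[R] Γ(T.left, ⊤)) : T ⟶ SB R C :=
  Over.homMk (T.left.toSpecΓ ≫ Spec.map (CommRingCat.ofHom φ.toRingHom)) (by
    change (T.left.toSpecΓ ≫ Spec.map _) ≫ Spec.map _ ≫ 𝟙 _ = T.hom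
    rw [Category.comp_id, Category.assoc, ← Spec.map_comp, ← CommRingCat.ofHom_comp,
      show φ.toRingHom.comp (algebraMap R C) = algebraMap R Γ(T.left, ⊤) from φ.comp_algebraMap]
    exact Over.w (Points.toSpec T))

theorem sfn_sPoint {T : Over (Spec (CommRingCat.of R))} (φ : C →ₐ[R] Γ(T.left, ⊤)) (c : C) :
    sfn (sPoint φ) c = φ c :=
  DFunLike.congr_fun (Points.ringHomOf_toSpecΓ φ.toRingHom) c

theorem sfn_injective {T : Over (Spec (CommRingCat.of R))} {t t' : T ⟶ SB R B}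
    (h : ∀ b, sfn t b = sfn t' b) : t = t' := by
  refine Over.OverMorphism.ext ?_
  rw [Points.eq_toSpecΓ t.left, Points.eq_toSpecΓ t'.left,
    show Points.ringHomOf t.left = Points.ringHomOf t'.left from RingHom.ext h]

theorem sfn_ov {T : Over (Spec (CommRingCat.of R))} (d : T ⟶ SB R C) (ψ : B →ₐ[R] C) (b : B) :
    sfn (d ≫ ov (𝟙 (Spec (CommRingCat.of R))) ψ) b = sfn d (ψ b) := by
  change Points.ringHomOf (d.left ≫ Spec.map (CommRingCat.ofHom ψ.toRingHom)) b = _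
  rw [Points.ringHomOf_comp]
  exact congrArg d.left.appTop
    (DFunLike.congr_fun (congrArg CommRingCat.Hom.hom (Scheme.ΓSpecIso_inv_naturality (CommRingCat.ofHom ψ.toRingHom))) b).symm

theorem appTop_eq_sfn {T : Over (Spec (CommRingCat.of R))} (d : T ⟶ SB R C)
    (z : Γ((SB R C).left, ⊤)) : d.left.appTop z = sfn d (rd (CommRingCat.of C) z) := by
  change _ = d.left.appTop ((Scheme.ΓSpecIso (CommRingCat.of C)).inv ((Scheme.ΓSpecIso (CommRingCat.of C)).hom z))
  rw [Iso.hom_inv_id_apply]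

/-! ### Root presentations -/

variable [NeZero N]

/-- A presentation of a torsor under roots of unity by the roots of a unit. -/
structure Root {Q' : Over (Spec (CommRingCat.of R))} (b' : AlgGrp.Action (Red.diag R (ZMod N)) Q') where
  /-- A cover. -/
  B : Type u
  [cr : CommRing B]
  [alg : Algebra R B]
  [ff : Module.FaithfullyFlat R B]
  /-- A section over the cover. -/
  s : SB R B ⟶ Q'
  /-- The coordinate of the section. -/
  m : B
  /-- The unit. -/
  u : R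
  isUnit_u : IsUnit u
  isUnit_m : IsUnit m
  pow_m : m ^ N = algebraMap R B u
  pseudo : NonAbH1.IsPseudoTorsorSch b'
  key : ∀ {T : Over (Spec (CommRingCat.of R))} (t₁ t₂ : T ⟶ SB R B) (h : T ⟶ Red.diag R (ZMod N)),
    lift h (t₁ ≫ s) ≫ b'.act = t₂ ≫ s → chi h * sfn t₁ m = sfn t₂ m

attribute [instance] Root.cr Root.alg Root.ff

open EtH1Gm.RingDesc in
theorem exists_root [IsLocalRing R] {Q' : Over (Spec (CommRingCat.of R))}
    (b' : AlgGrp.Action (Red.diag R (ZMod N)) Q') (hQ' : NonAbH1.IsTorsorFor Scheme.fppfPrecoverage b') :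
    Nonempty (Root b') := by
  have hQf := TorsorSch.Descent.isTorsorFor_mono Scheme.fppfPrecoverage_le_fpqcPrecoverage hQ'
  obtain ⟨T, hT, q, hqs, hqf, s, hs⟩ := exists_affine_section hQf.2 ⊤
    (isAffineOpen_top (Spec (CommRingCat.of R)))
  let q' : T ⟶ Spec (CommRingCat.of R) := q ≫ (⊤ : (Spec (CommRingCat.of R)).Opens).ι
  have : IsIso (⊤ : (Spec (CommRingCat.of R)).Opens).ι := (inferInstance : IsIso (Scheme.topIso _).hom)
  let B : Type u := Γ(T, ⊤)
  let φ : CommRingCat.of R ⟶ Γ(T, ⊤) := Spec.preimage (T.isoSpec.inv ≫ q')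
  algebraize [φ.hom]
  have hφ : Spec.map φ = T.isoSpec.inv ≫ q' := Spec.map_preimage _
  have : Module.FaithfullyFlat R B := by
    have hs' : Surjective (Spec.map φ) := by rw [hφ]; infer_instance
    have hf' : Flat (Spec.map φ) := by rw [hφ]; infer_instance
    exact (RingHom.FaithfullyFlat.iff_flat_and_comap_surjective (f := φ.hom)).2
      ⟨HasRingHomProperty.Spec_iff.1 hf', hs'.1⟩
  let σ : SB R B ⟶ Q' := Over.homMk (T.isoSpec.inv ≫ s) (by
    change _ = Spec.map φ ≫ 𝟙 _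
    rw [Category.assoc, hs, hφ, Category.comp_id])
  obtain ⟨g, hg, hcoc⟩ := exists_cocycle (𝟙 (Spec (CommRingCat.of R))) hQ'.1 σ
  obtain ⟨gam, hgam⟩ : ∃ gam : B ⊗[R] B, gam = rd (CommRingCat.of (B ⊗[R] B)) (chi g) := ⟨_, rfl⟩
  have hgN : gam ^ N = 1 := by rw [hgam, ← map_pow, chi_pow, map_one]
  have hu : IsUnit gam := IsUnit.of_pow_eq_one hgN (NeZero.ne N)
  have hov : ∀ d : B ⊗[R] B →ₐ[R] (B ⊗[R] B) ⊗[R] B,
      rd (CommRingCat.of ((B ⊗[R] B) ⊗[R] B)) (chi (ov (𝟙 (Spec (CommRingCat.of R))) d ≫ g)) = d gam := by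
    intro d
    rw [chi_comp, hgam]
    exact rd_map (CommRingCat.ofHom d.toRingHom) _
  have hc : d (j₁ R B) (j₂ R B) gam * d (j₂ R B) (j₃ R B) gam = d (j₁ R B) (j₃ R B) gam := by
    have h := congrArg (fun z => rd (CommRingCat.of ((B ⊗[R] B) ⊗[R] B)) (chi z))
      (hcoc (j₁ R B) (j₂ R B) (j₃ R B) (d (j₁ R B) (j₂ R B)) (d (j₂ R B) (j₃ R B)) (d (j₁ R B) (j₃ R B))
      (Algebra.TensorProduct.lift_comp_includeLeft _ _ fun _ _ => .all _ _) (Algebra.TensorProduct.lift_comp_includeRight _ _ fun _ _ => .all _ _)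
      (Algebra.TensorProduct.lift_comp_includeLeft _ _ fun _ _ => .all _ _) (Algebra.TensorProduct.lift_comp_includeRight _ _ fun _ _ => .all _ _)
      (Algebra.TensorProduct.lift_comp_includeLeft _ _ fun _ _ => .all _ _) (Algebra.TensorProduct.lift_comp_includeRight _ _ fun _ _ => .all _ _))
    simp only [chi_mul, map_mul, hov] at h
    rw [mul_comm]
    exact h
  obtain ⟨q₀, hq₀⟩ := PrimeSpectrum.comap_surjective_of_faithfullyFlat (A := R) (B := B) (IsLocalRing.closedPoint R)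
  obtain ⟨m, hm, hmq⟩ := exists_mem_ker_notMem gam hu hc q₀.asIdeal
  have hnot : ∀ P : PrimeSpectrum B, m ∉ P.asIdeal := by
    intro P
    have : q₀.asIdeal.LiesOver (IsLocalRing.maximalIdeal R) := ⟨(congrArg PrimeSpectrum.asIdeal hq₀).symm⟩
    obtain ⟨P', hP'le, hP'p, hP'over⟩ := _root_.Ideal.exists_ideal_le_liesOver_of_le q₀.asIdeal
      (p := (PrimeSpectrum.comap (algebraMap R B) P).asIdeal) (q := IsLocalRing.maximalIdeal R)
      (IsLocalRing.le_maximalIdeal (PrimeSpectrum.isPrime _).ne_top)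
    exact notMem_of_comap_eq hu hm (q := ⟨P', hP'p⟩) (q' := P) (PrimeSpectrum.ext hP'over.over.symm)
      fun h => hmq (hP'le h)
  have hmu : IsUnit m := by
    by_contra hcon
    obtain ⟨M, hM, hmM⟩ := exists_max_ideal_of_mem_nonunits (show m ∈ nonunits B from hcon)
    exact hnot ⟨M, hM.isPrime⟩ hmM
  have hmN : (1 : B) ⊗ₜ[R] (m ^ N) - (m ^ N) ⊗ₜ 1 = (0 : R) • (0 : B ⊗[R] B) := by
    rw [zero_smul, sub_eq_zero]
    calc (1 : B) ⊗ₜ[R] (m ^ N) = ((1 : B) ⊗ₜ[R] m) ^ N := by rw [Algebra.TensorProduct.tmul_pow, one_pow]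
      _ = (gam * (m ⊗ₜ 1)) ^ N := by rw [hm]
      _ = (m ^ N) ⊗ₜ 1 := by rw [mul_pow, hgN, one_mul, Algebra.TensorProduct.tmul_pow, one_pow]
  obtain ⟨u, c, huc⟩ := PHS.SekG.exists_eq_add (0 : R) hmN
  rw [zero_smul, add_zero] at huc
  refine ⟨{ B := B, s := σ, m := m, u := u, isUnit_u := ?_, isUnit_m := hmu, pow_m := huc, pseudo := hQ'.1, key := ?_ }⟩
  · by_contra hcon
    obtain ⟨M, hM, huM⟩ := exists_max_ideal_of_mem_nonunits (show u ∈ nonunits R from hcon)
    obtain ⟨P, hP⟩ := PrimeSpectrum.comap_surjective_of_faithfullyFlat (A := R) (B := B) ⟨M, hM.isPrime⟩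
    have h1 : algebraMap R B u ∈ P.asIdeal := (SetLike.ext_iff.1 (congrArg PrimeSpectrum.asIdeal hP) u).2 huM
    exact P.isPrime.ne_top (_root_.Ideal.eq_top_of_isUnit_mem _ (huc ▸ h1) (hmu.pow N))
  · intro T t₁ t₂ h hh
    let dd : T ⟶ P2 B (𝟙 (Spec (CommRingCat.of R))) :=
      sPoint (Algebra.TensorProduct.lift (sAlg t₁) (sAlg t₂) fun _ _ => .all _ _)
    have e₁ : dd ≫ pr₁ B (𝟙 _) = t₁ := sfn_injective fun b => by
      rw [sfn_ov, sfn_sPoint, Algebra.TensorProduct.includeLeft_apply, Algebra.TensorProduct.lift_tmul, map_one, mul_one]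
      rfl
    have e₂ : dd ≫ pr₂ B (𝟙 _) = t₂ := sfn_injective fun b => by
      rw [sfn_ov, sfn_sPoint, Algebra.TensorProduct.includeRight_apply, Algebra.TensorProduct.lift_tmul, map_one, one_mul]
      rfl
    have hh' : lift (dd ≫ g) (t₁ ≫ σ) ≫ b'.act = t₂ ≫ σ := by
      have := congrArg (dd ≫ ·) hg
      simp only [comp_act] at this
      rwa [reassoc_of% e₁, reassoc_of% e₂] at this
    rw [(TorsorSch.FibreProd.existsUnique_of_pseudo hQ'.1 (t₁ ≫ σ) (t₂ ≫ σ)).unique hh hh', chi_comp,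
      appTop_eq_sfn dd, ← hgam]
    have hm' := congrArg (sfn dd) hm
    rw [map_mul] at hm'
    rwa [sfn_sPoint (T := T) _ (m ⊗ₜ 1), sfn_sPoint (T := T) _ ((1 : B) ⊗ₜ m),
      Algebra.TensorProduct.lift_tmul, Algebra.TensorProduct.lift_tmul, map_one, map_one, mul_one, one_mul] at hm'

variable {Q' : Over (Spec (CommRingCat.of R))} {b' : AlgGrp.Action (Red.diag R (ZMod N)) Q'} (rt : Root b')

/-- `θ` is the coordinate of the point `y`. -/
def IsTheta {T : Over (Spec (CommRingCat.of R))} (y : T ⟶ Q') (θ : Γ(T.left, ⊤)) : Prop :=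
  ∃ (t : T ⟶ SB R rt.B) (h : T ⟶ Red.diag R (ZMod N)),
    lift h (t ≫ rt.s) ≫ b'.act = y ∧ θ = chi h * sfn t rt.m

variable {rt} {T : Over (Spec (CommRingCat.of R))}

theorem exists_theta (t : T ⟶ SB R rt.B) (y : T ⟶ Q') : ∃ θ, IsTheta rt y θ := by
  obtain ⟨h, hh, -⟩ := TorsorSch.FibreProd.existsUnique_of_pseudo rt.pseudo (t ≫ rt.s) y
  exact ⟨_, t, h, hh, rfl⟩

theorem IsTheta.unique {y : T ⟶ Q'} {θ θ' : Γ(T.left, ⊤)} (h₁ : IsTheta rt y θ) (h₂ : IsTheta rt y θ') :
    θ = θ' := by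
  obtain ⟨t, h, hh, rfl⟩ := h₁
  obtain ⟨t', h', hh', rfl⟩ := h₂
  obtain ⟨k, hk, -⟩ := TorsorSch.FibreProd.existsUnique_of_pseudo rt.pseudo (t ≫ rt.s) (t' ≫ rt.s)
  have e : h = h' * k := (TorsorSch.FibreProd.existsUnique_of_pseudo rt.pseudo (t ≫ rt.s) y).unique hh
    ((GrpSch.act_mul b' h' k _).trans (by rw [hk, hh']))
  rw [e, chi_mul, mul_assoc, rt.key t t' k hk]

theorem IsTheta.pow {y : T ⟶ Q'} {θ : Γ(T.left, ⊤)} (h₁ : IsTheta rt y θ) :
    θ ^ N = algebraMap R Γ(T.left, ⊤) rt.u := by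
  obtain ⟨t, h, hh, rfl⟩ := h₁
  rw [mul_pow, chi_pow, one_mul, ← map_pow, rt.pow_m, sfn_algebraMap]

theorem IsTheta.comp {T' : Over (Spec (CommRingCat.of R))} (k : T' ⟶ T) {y : T ⟶ Q'} {θ : Γ(T.left, ⊤)}
    (h₁ : IsTheta rt y θ) : IsTheta rt (k ≫ y) (k.left.appTop θ) := by
  obtain ⟨t, h, hh, rfl⟩ := h₁
  refine ⟨k ≫ t, k ≫ h, ?_, ?_⟩
  · rw [← hh, comp_act, Category.assoc]
  · rw [map_mul, chi_comp, sfn_comp]

theorem IsTheta.act {y : T ⟶ Q'} {θ : Γ(T.left, ⊤)} (h₁ : IsTheta rt y θ) (z : T ⟶ Red.diag R (ZMod N)) :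
    IsTheta rt (lift z y ≫ b'.act) (chi z * θ) := by
  obtain ⟨t, h, hh, rfl⟩ := h₁
  exact ⟨t, z * h, (GrpSch.act_mul b' z h _).trans (by rw [hh]), by rw [chi_mul, mul_assoc]⟩

theorem IsTheta.inj {y y' : T ⟶ Q'} {θ : Γ(T.left, ⊤)} (h₁ : IsTheta rt y θ) (h₂ : IsTheta rt y' θ) :
    y = y' := by
  obtain ⟨t, h, hh, rfl⟩ := h₁
  obtain ⟨t', h', hh', e⟩ := h₂
  obtain ⟨k, hk, -⟩ := TorsorSch.FibreProd.existsUnique_of_pseudo rt.pseudo (t ≫ rt.s) (t' ≫ rt.s)
  have h2 : lift (h' * k) (t ≫ rt.s) ≫ b'.act = y' := (GrpSch.act_mul b' h' k _).trans (by rw [hk, hh'])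
  rw [← rt.key t t' k hk, ← mul_assoc, ← chi_mul] at e
  rw [← hh, ← h2, chi_injective ((rt.isUnit_m.map (sfn t)).mul_right_cancel e)]

theorem exists_point (t : T ⟶ SB R rt.B) {θ : Γ(T.left, ⊤)} (hθ : θ ^ N = algebraMap R Γ(T.left, ⊤) rt.u) :
    ∃ y : T ⟶ Q', IsTheta rt y θ := by
  obtain ⟨mi, hmi⟩ := (rt.isUnit_m.map (sfn t)).exists_right_inv
  have he : (θ * mi) ^ N = 1 := by
    rw [mul_pow, hθ, ← sfn_algebraMap t, ← rt.pow_m, map_pow, ← mul_pow, hmi, one_pow]
  obtain ⟨z, hz⟩ := exists_chi _ he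
  refine ⟨lift z (t ≫ rt.s) ≫ b'.act, t, z, rfl, ?_⟩
  rw [hz, mul_assoc, mul_comm mi, hmi, mul_one]

end Groth.Agent.Lib.SekSuwaTors
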